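import Mathlib.GroupTheory.IsSubnormal
import Mathlib.GroupTheory.Sylow
import Mathlib.GroupTheory.Index
import Mathlib.GroupTheory.Commutator.Basic
import Mathlib.GroupTheory.Subgroup.Centralizer

/-!
General subgroup lemmas used by the `Lib/Core` files (no `Cfsg.Prelude` dependence).
-/

set_option autoImplicit false

namespace Cfsg.Lib.Core

open Subgroup

variable {G : Type*} [Group G] {G' : Type*} [Group G']

/-- In a finite partially ordered complete lattice, a family containing `⊥` and closed under binary sups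
contains its supremum. -/
theorem sSup_mem_of_sup_mem {α : Type*} [CompleteLattice α] [Finite α] {S : Set α} (hbot : ⊥ ∈ S)
    (hsup : ∀ a ∈ S, ∀ b ∈ S, a ⊔ b ∈ S) : sSup S ∈ S := by
  classical
  have h : ∀ T : Set α, T.Finite → T ⊆ S → sSup T ∈ S := by
    intro T hT
    induction T, hT using Set.Finite.induction_on with
    | empty => intro _; simpa using hbot
    | insert _ _ ih =>
      intro hTS
      rw [sSup_insert]
      exact hsup _ (hTS (Set.mem_insert _ _)) _ (ih ((Set.subset_insert _ _).trans hTS))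
  exact h S (Set.toFinite S) le_rfl

/-- Same, for an indexed supremum. -/
theorem iSup_mem_of_sup_mem {α : Type*} [CompleteLattice α] [Finite α] {S : Set α} (hbot : ⊥ ∈ S)
    (hsup : ∀ a ∈ S, ∀ b ∈ S, a ⊔ b ∈ S) {ι : Sort*} (f : ι → α) (hf : ∀ i, f i ∈ S) : iSup f ∈ S := by
  classical
  have h : ∀ T : Set α, T.Finite → T ⊆ S → sSup T ∈ S := by
    intro T hT
    induction T, hT using Set.Finite.induction_on with
    | empty => intro _; simpa using hbot
    | insert _ _ ih =>
      intro hTS
      rw [sSup_insert]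
      exact hsup _ (hTS (Set.mem_insert _ _)) _ (ih ((Set.subset_insert _ _).trans hTS))
  exact h (Set.range f) (Set.toFinite _) (Set.range_subset_iff.2 hf)

/-! ### Orders -/

theorem card_sup_dvd_mul (H K : Subgroup G) [K.Normal] :
    Nat.card (H ⊔ K : Subgroup G) ∣ Nat.card H * Nat.card K := by
  have h : Nat.card (H ⊔ K : Subgroup G) = K.relIndex (H ⊔ K) * Nat.card K := by
    rw [← relIndex_bot_left, ← relIndex_bot_left, mul_comm,
      relIndex_mul_relIndex _ _ _ bot_le le_sup_right]
  rw [h, relIndex_sup_right]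
  exact mul_dvd_mul_right (relIndex_dvd_card K H) _

theorem card_map_dvd (f : G →* G') (H : Subgroup G) : Nat.card (H.map f) ∣ Nat.card H :=
  Subgroup.card_dvd_of_surjective (f.subgroupMap H) (f.subgroupMap_surjective H)

theorem card_map_subtype {H : Subgroup G} (K : Subgroup H) :
    Nat.card (K.map H.subtype) = Nat.card K :=
  Subgroup.card_map_of_injective H.subtype_injective

theorem card_mul_relIndex {H K : Subgroup G} (h : H ≤ K) : Nat.card H * H.relIndex K = Nat.card K := by
  rw [← relIndex_bot_left, ← relIndex_bot_left, relIndex_mul_relIndex _ _ _ bot_le h]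

theorem lt_card_of_ne_top [Finite G] {H : Subgroup G} (h : H ≠ ⊤) : Nat.card H < Nat.card G := by
  have hd := H.card_subgroup_dvd_card
  rcases (Nat.le_of_dvd Nat.card_pos hd).lt_or_eq with h' | h'
  · exact h'
  · exact absurd (Subgroup.eq_top_of_card_eq H h') h

theorem card_quotient_lt [Finite G] {N : Subgroup G} [N.Normal] (h : N ≠ ⊥) :
    Nat.card (G ⧸ N) < Nat.card G := by
  rw [card_eq_card_quotient_mul_card_subgroup N]
  exact lt_mul_of_one_lt_right Nat.card_pos ((one_lt_card_iff_ne_bot N).2 h)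

/-! ### Normalizers, conjugation, characteristic subgroups -/

theorem le_normalizer_iff_conj_mem {H K : Subgroup G} :
    H ≤ normalizer (K : Set G) ↔ ∀ h ∈ H, ∀ k ∈ K, h * k * h⁻¹ ∈ K :=
  le_normalizer_iff

theorem map_conj_eq_of_mem_normalizer {H : Subgroup G} {g : G} (hg : g ∈ normalizer (H : Set G)) :
    H.map (MulAut.conj g).toMonoidHom = H := by
  ext x
  rw [Subgroup.mem_map_equiv, MulAut.conj_symm_apply]
  rw [mem_normalizer_iff] at hg
  rw [hg (g⁻¹ * x * g)]
  simp [mul_assoc]

theorem mem_normalizer_iff_map_conj {H : Subgroup G} {g : G} :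
    g ∈ normalizer (H : Set G) ↔ H.map (MulAut.conj g).toMonoidHom = H := by
  refine ⟨map_conj_eq_of_mem_normalizer, fun h => ?_⟩
  rw [mem_normalizer_iff]
  intro x
  conv_rhs => rw [← h]
  rw [Subgroup.mem_map_equiv, MulAut.conj_symm_apply]
  simp [mul_assoc]

theorem map_conj_mul (H : Subgroup G) (a b : G) :
    H.map (MulAut.conj (a * b)).toMonoidHom =
      (H.map (MulAut.conj b).toMonoidHom).map (MulAut.conj a).toMonoidHom := by
  rw [Subgroup.map_map]
  congr 1
  ext x
  simp [mul_assoc]

theorem mem_map_conj {H : Subgroup G} {g x : G} :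
    x ∈ H.map (MulAut.conj g).toMonoidHom ↔ g⁻¹ * x * g ∈ H := by
  rw [Subgroup.mem_map_equiv, MulAut.conj_symm_apply]

theorem normal_iff_map_conj {H : Subgroup G} :
    H.Normal ↔ ∀ g : G, H.map (MulAut.conj g).toMonoidHom = H := by
  rw [← normalizer_eq_top_iff, eq_top_iff]
  exact ⟨fun h g => map_conj_eq_of_mem_normalizer (h (mem_top g)),
    fun h g _ => mem_normalizer_iff_map_conj.2 (h g)⟩

/-- The image in `G` of a characteristic subgroup of `H` is normalized by the normalizer of `H`. -/
theorem normalizer_le_normalizer_map_char {H : Subgroup G} (C : Subgroup H) [hC : C.Characteristic] :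
    normalizer (H : Set G) ≤ normalizer ((C.map H.subtype : Subgroup G) : Set G) := by
  intro g hg
  rw [mem_normalizer_iff_map_conj]
  set φ : MulAut H := H.normalizerMonoidHom ⟨g, hg⟩ with hφ
  have hcomp : (MulAut.conj g).toMonoidHom.comp H.subtype = H.subtype.comp φ.toMonoidHom := by
    ext x; rfl
  rw [Subgroup.map_map, hcomp, ← Subgroup.map_map, characteristic_iff_map_eq.1 hC φ]

theorem normal_map_char_of_normal {N : Subgroup G} [N.Normal] (C : Subgroup N) [C.Characteristic] :
    (C.map N.subtype).Normal := by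
  rw [← normalizer_eq_top_iff, eq_top_iff]
  calc (⊤ : Subgroup G) = normalizer (N : Set G) := (normalizer_eq_top (H := N)).symm
    _ ≤ _ := normalizer_le_normalizer_map_char C

theorem subgroupOf_map_char_normal {H K : Subgroup G} (hHK : H ≤ K) (hN : (H.subgroupOf K).Normal)
    (C : Subgroup H) [C.Characteristic] : ((C.map H.subtype).subgroupOf K).Normal := by
  rw [normal_subgroupOf_iff_le_normalizer ((map_subtype_le _).trans hHK)]
  exact ((normal_subgroupOf_iff_le_normalizer hHK).1 hN).trans (normalizer_le_normalizer_map_char C)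

/-! ### Subnormal subgroups -/

/-- A family of subgroups attached to each subgroup, monotone along normal inclusions, is monotone
along subnormal ones. -/
theorem le_of_isSubnormal {α : Type*} [Preorder α] (C : Subgroup G → α)
    (step : ∀ H K : Subgroup G, H ≤ K → (H.subgroupOf K).Normal → C H ≤ C K)
    {H : Subgroup G} (hH : H.IsSubnormal) : C H ≤ C ⊤ := by
  induction hH with
  | top => exact le_rfl
  | step H K h_le _ hN ih => exact (step H K h_le hN).trans ih

theorem isSubnormal_map_conj {H : Subgroup G} (h : H.IsSubnormal) (g : G) :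
    (H.map (MulAut.conj g).toMonoidHom).IsSubnormal :=
  h.map (MulAut.conj g).surjective

theorem isSubnormal_map_subtype_iff {H : Subgroup G} (hH : H.IsSubnormal) (K : Subgroup H) :
    (K.map H.subtype).IsSubnormal ↔ K.IsSubnormal := by
  refine ⟨fun h => ?_, fun h => h.trans' hH⟩
  have h' : ((K.map H.subtype).subgroupOf H).IsSubnormal := h.subgroupOf
  rwa [Subgroup.subgroupOf, comap_map_eq_self_of_injective H.subtype_injective] at h'

theorem isSubnormal_map_subtype {H : Subgroup G} [hH : H.Normal] {K : Subgroup H} (h : K.IsSubnormal) :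
    (K.map H.subtype).IsSubnormal :=
  h.trans' hH.isSubnormal

theorem isSubnormal_of_normal_subgroupOf {H K : Subgroup G} (hle : H ≤ K) (hK : K.IsSubnormal)
    (hN : (H.subgroupOf K).Normal) : H.IsSubnormal :=
  Subgroup.IsSubnormal.step H K hle hK hN

/-- The derived subgroup of a subnormal subgroup is subnormal. -/
theorem isSubnormal_commutator_self {K : Subgroup G} (hK : K.IsSubnormal) : ⁅K, K⁆.IsSubnormal := by
  refine isSubnormal_of_normal_subgroupOf K.commutator_le_self hK ?_
  rw [normal_subgroupOf_iff_le_normalizer K.commutator_le_self]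
  exact Subgroup.normalizer_commutator_ge_left (H₁ := K) (H₂ := K)

/-! ### Commutators -/

theorem commutator_eq_bot_iff_forall {H K : Subgroup G} :
    ⁅H, K⁆ = ⊥ ↔ ∀ x ∈ H, ∀ y ∈ K, x * y = y * x := by
  rw [commutator_eq_bot_iff_le_centralizer]
  refine ⟨fun h x hx y hy => ((mem_centralizer_iff.1 (h hx)) y hy).symm, fun h x hx => ?_⟩
  exact mem_centralizer_iff.2 fun y hy => (h x hx y hy).symm

/-- The three subgroup lemma for a perfect subgroup. -/
theorem commutator_eq_bot_of_perfect {L X : Subgroup G} (hL : ⁅L, L⁆ = L) (h : ⁅⁅X, L⁆, L⁆ = ⊥) :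
    ⁅X, L⁆ = ⊥ := by
  have h2 : ⁅⁅L, X⁆, L⁆ = ⊥ := by rwa [commutator_comm L X]
  have h3 := commutator_commutator_eq_bot_of_rotate (H₁ := L) (H₂ := L) (H₃ := X) h2 h
  rw [hL] at h3
  rwa [commutator_comm]

theorem mem_sup_of_le_normalizer {A B : Subgroup G} (h : A ≤ normalizer (B : Set G)) {x : G} :
    x ∈ A ⊔ B ↔ ∃ a ∈ A, ∃ b ∈ B, a * b = x := by
  rw [← SetLike.mem_coe, coe_mul_of_left_le_normalizer_right A B h]
  exact Set.mem_mul

/-- The mutually commuting case of `mem_sup_of_le_normalizer`. -/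
theorem mem_sup_of_commute {A B : Subgroup G} (h : ⁅A, B⁆ = ⊥) {x : G} :
    x ∈ A ⊔ B ↔ ∃ a ∈ A, ∃ b ∈ B, a * b = x :=
  mem_sup_of_le_normalizer
    ((commutator_eq_bot_iff_le_centralizer.1 h).trans (centralizer_le_normalizer (B : Set G)))

theorem commutator_sup_left_eq_bot {A B C : Subgroup G} (hA : ⁅A, C⁆ = ⊥) (hB : ⁅B, C⁆ = ⊥) :
    ⁅A ⊔ B, C⁆ = ⊥ := by
  rw [commutator_eq_bot_iff_le_centralizer] at *
  exact sup_le hA hB

theorem commutator_iSup_left_eq_bot {ι : Sort*} {A : ι → Subgroup G} {C : Subgroup G}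
    (hA : ∀ i, ⁅A i, C⁆ = ⊥) : ⁅⨆ i, A i, C⁆ = ⊥ := by
  simp only [commutator_eq_bot_iff_le_centralizer] at *
  exact iSup_le hA

theorem commutator_sSup_left_eq_bot {S : Set (Subgroup G)} {C : Subgroup G}
    (hA : ∀ A ∈ S, ⁅A, C⁆ = ⊥) : ⁅sSup S, C⁆ = ⊥ := by
  simp only [commutator_eq_bot_iff_le_centralizer] at *
  exact sSup_le hA

theorem le_center_map_iff {H K : Subgroup G} (hKH : K ≤ H) :
    K ≤ (center H).map H.subtype ↔ ⁅K, H⁆ = ⊥ := by
  rw [commutator_eq_bot_iff_forall]
  constructor
  · intro h x hx y hy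
    obtain ⟨z, hz, rfl⟩ := h hx
    exact (congrArg Subtype.val (mem_center_iff.1 hz ⟨y, hy⟩)).symm
  · intro h x hx
    exact ⟨⟨x, hKH hx⟩, mem_center_iff.2 fun y => Subtype.ext (h x hx y y.2).symm, rfl⟩

theorem mem_center_map_iff {H : Subgroup G} {x : G} :
    x ∈ (center H).map H.subtype ↔ x ∈ H ∧ ∀ y ∈ H, x * y = y * x := by
  constructor
  · rintro ⟨z, hz, rfl⟩
    exact ⟨z.2, fun y hy => (congrArg Subtype.val (mem_center_iff.1 hz ⟨y, hy⟩)).symm⟩
  · rintro ⟨hx, h⟩
    exact ⟨⟨x, hx⟩, mem_center_iff.2 fun y => Subtype.ext (h y y.2).symm, rfl⟩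

theorem center_map_eq_inf_centralizer (H : Subgroup G) :
    (center H).map H.subtype = H ⊓ centralizer (H : Set G) := by
  ext x
  rw [mem_center_map_iff, mem_inf, mem_centralizer_iff]
  exact and_congr_right fun _ => ⟨fun h y hy => (h y hy).symm, fun h y hy => (h y hy).symm⟩

end Cfsg.Lib.Core
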