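import Cfsg.Prelude.Def_Solvable
import Cfsg.Prelude.Def_CaseTheorems
import Cfsg.Prelude.Def_OddOrderLocal
import Cfsg.Agent.Lib.Core.Basic

/-!
`O_p`, `O_{p'}`, `O_π`: basic properties for finite groups.
-/

set_option autoImplicit false

namespace Cfsg.Lib.Core

open Subgroup

universe u

variable {G : Type*} [Group G]

/-! ### Closure properties -/

theorem isPGroup_sup_of_normal {p : ℕ} {H K : Subgroup G} [K.Normal] (hH : IsPGroup p H)
    (hK : IsPGroup p K) : IsPGroup p (H ⊔ K : Subgroup G) :=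
  hH.to_sup_of_normal_right hK

theorem coprime_card_sup {p : ℕ} {H K : Subgroup G} [K.Normal] (hH : (Nat.card H).Coprime p)
    (hK : (Nat.card K).Coprime p) : (Nat.card (H ⊔ K : Subgroup G)).Coprime p :=
  Nat.Coprime.coprime_dvd_left (card_sup_dvd_mul H K) (hH.mul_left hK)

/-- Every prime divisor of the order of `H` lies in `π`. -/
def IsPiSub (π : Set ℕ) (H : Subgroup G) : Prop :=
  ∀ q : ℕ, q.Prime → q ∣ Nat.card H → q ∈ π

theorem IsPiSub.sup {π : Set ℕ} {H K : Subgroup G} [K.Normal] (hH : IsPiSub π H) (hK : IsPiSub π K) :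
    IsPiSub π (H ⊔ K : Subgroup G) := by
  intro q hq hd
  rcases hq.dvd_mul.1 (hd.trans (card_sup_dvd_mul H K)) with h | h
  · exact hH q hq h
  · exact hK q hq h

theorem isPiSub_bot (π : Set ℕ) : IsPiSub π (⊥ : Subgroup G) := by
  intro q hq hd
  rw [Subgroup.card_bot] at hd
  exact absurd (Nat.dvd_one.1 hd) hq.ne_one

theorem IsPiSub.mono {π : Set ℕ} {H K : Subgroup G} (hle : H ≤ K) (hK : IsPiSub π K) : IsPiSub π H :=
  fun q hq hd => hK q hq (hd.trans (Subgroup.card_dvd_of_le hle))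

theorem IsPiSub.map {π : Set ℕ} {G' : Type*} [Group G'] {H : Subgroup G} (hH : IsPiSub π H)
    (f : G →* G') : IsPiSub π (H.map f) :=
  fun q hq hd => hH q hq (hd.trans (card_map_dvd f H))

theorem coprime_card_of_le {p : ℕ} {H K : Subgroup G} (hle : H ≤ K) (hK : (Nat.card K).Coprime p) :
    (Nat.card H).Coprime p :=
  Nat.Coprime.coprime_dvd_left (Subgroup.card_dvd_of_le hle) hK

/-! ### `O_p` -/

section pCore

variable [Finite G] {p : ℕ}

theorem pCore_isPGroup (p : ℕ) (G : Type*) [Group G] [Finite G] : IsPGroup p (Cfsg.pCore p G) :=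
  (sSup_mem_of_sup_mem (S := {N : Subgroup G | N.Normal ∧ IsPGroup p N})
    ⟨inferInstance, IsPGroup.of_bot⟩
    fun a ha b hb => by
      have := ha.1; have := hb.1
      exact ⟨Subgroup.sup_normal a b, isPGroup_sup_of_normal ha.2 hb.2⟩).2

omit [Finite G] in
theorem le_pCore {N : Subgroup G} [hN : N.Normal] (h : IsPGroup p N) : N ≤ Cfsg.pCore p G :=
  le_sSup ⟨hN, h⟩

omit [Finite G] in
theorem le_pCore' {N : Subgroup G} (hN : N.Normal) (h : IsPGroup p N) : N ≤ Cfsg.pCore p G :=
  le_sSup ⟨hN, h⟩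

theorem map_pCore_le {G' : Type*} [Group G'] (f : G →* G') (hf : Function.Surjective f) :
    (Cfsg.pCore p G).map f ≤ Cfsg.pCore p G' :=
  le_pCore' (Subgroup.Normal.map inferInstance f hf) ((pCore_isPGroup p G).map f)

theorem map_pCore_equiv {G' : Type*} [Group G'] [Finite G'] (e : G ≃* G') :
    (Cfsg.pCore p G).map e.toMonoidHom = Cfsg.pCore p G' := by
  refine le_antisymm (map_pCore_le _ e.surjective) ?_
  intro x hx
  exact ⟨e.symm x, map_pCore_le (p := p) e.symm.toMonoidHom e.symm.surjective ⟨x, hx, rfl⟩,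
    e.apply_symm_apply x⟩

instance pCore_characteristic : (Cfsg.pCore p G).Characteristic :=
  characteristic_iff_map_eq.2 fun e => map_pCore_equiv e

omit [Finite G] in
theorem pCore_eq_top (h : IsPGroup p G) : Cfsg.pCore p G = ⊤ :=
  top_le_iff.1 (le_pCore (h.to_subgroup ⊤))

/-- `O_p` of a subgroup, seen in `G`, is monotone along normal inclusions. -/
theorem pCore_map_le_of_normal {H K : Subgroup G} (hle : H ≤ K) (hN : (H.subgroupOf K).Normal) :
    (Cfsg.pCore p H).map H.subtype ≤ (Cfsg.pCore p K).map K.subtype := by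
  have hle' : (Cfsg.pCore p H).map H.subtype ≤ K := (map_subtype_le _).trans hle
  rw [← map_subgroupOf_eq_of_le hle']
  exact map_mono (le_pCore' (subgroupOf_map_char_normal hle hN _)
    ((((pCore_isPGroup p H).map H.subtype)).comap_subtype))

theorem pCore_map_le_of_isSubnormal {H : Subgroup G} (hH : H.IsSubnormal) :
    (Cfsg.pCore p H).map H.subtype ≤ Cfsg.pCore p G := by
  refine (le_of_isSubnormal (fun K => (Cfsg.pCore p K).map K.subtype)
    (fun _ _ => pCore_map_le_of_normal) hH).trans ?_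
  exact map_pCore_le (⊤ : Subgroup G).subtype fun x => ⟨⟨x, trivial⟩, rfl⟩

theorem le_pCore_of_isSubnormal {H : Subgroup G} (hH : H.IsSubnormal) (h : IsPGroup p H) :
    H ≤ Cfsg.pCore p G := by
  have := pCore_map_le_of_isSubnormal (p := p) hH
  rwa [pCore_eq_top h, ← MonoidHom.range_eq_map, range_subtype] at this

theorem inf_pCore_le (H : Subgroup G) : Cfsg.pCore p G ⊓ H ≤ (Cfsg.pCore p H).map H.subtype := by
  rw [← map_subgroupOf_eq_of_le (inf_le_right : Cfsg.pCore p G ⊓ H ≤ H)]
  refine map_mono ?_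
  rw [inf_subgroupOf_right]
  exact le_pCore ((pCore_isPGroup p G).comap_subtype)

theorem pCore_map_eq_inf_of_isSubnormal {H : Subgroup G} (hH : H.IsSubnormal) :
    (Cfsg.pCore p H).map H.subtype = Cfsg.pCore p G ⊓ H :=
  le_antisymm (le_inf (pCore_map_le_of_isSubnormal hH) (map_subtype_le _)) (inf_pCore_le H)

theorem pCore_quotient_pCore_eq_bot : Cfsg.pCore p (G ⧸ Cfsg.pCore p G) = ⊥ := by
  set f := QuotientGroup.mk' (Cfsg.pCore p G) with hf
  set M := (Cfsg.pCore p (G ⧸ Cfsg.pCore p G)).comap f with hM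
  have hp : IsPGroup p M := by
    refine IsPGroup.comap_of_ker_isPGroup (pCore_isPGroup p _) f ?_
    rw [hf, QuotientGroup.ker_mk']
    exact pCore_isPGroup p G
  have hle : M ≤ Cfsg.pCore p G := le_pCore' (Subgroup.Normal.comap inferInstance f) hp
  rw [← map_comap_eq_self_of_surjective (QuotientGroup.mk'_surjective _)
    (Cfsg.pCore p (G ⧸ Cfsg.pCore p G)), eq_bot_iff, ← hM]
  refine (map_mono hle).trans (le_of_eq ?_)
  exact QuotientGroup.map_mk'_self _

/-- `O_p` is contained in every Sylow `p`-subgroup. -/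
theorem pCore_le_sylow [Fact p.Prime] (P : Sylow p G) : Cfsg.pCore p G ≤ P := by
  have h := isPGroup_sup_of_normal (H := (P : Subgroup G)) P.isPGroup' (pCore_isPGroup p G)
  exact sup_eq_left.1 (P.is_maximal' h le_sup_left)

end pCore

/-! ### `O_{p'}` -/

section pPrimeCore

variable [Finite G] {p : ℕ}

theorem pPrimeCore_coprime (p : ℕ) (G : Type*) [Group G] [Finite G] :
    (Nat.card (Cfsg.pPrimeCore p G)).Coprime p :=
  (sSup_mem_of_sup_mem (S := {N : Subgroup G | N.Normal ∧ (Nat.card N).Coprime p})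
    ⟨inferInstance, by simp⟩
    fun a ha b hb => by
      have := ha.1; have := hb.1
      exact ⟨Subgroup.sup_normal a b, coprime_card_sup ha.2 hb.2⟩).2

theorem pPrimeCore_not_dvd (p : ℕ) [hp : Fact p.Prime] (G : Type*) [Group G] [Finite G] :
    ¬ p ∣ Nat.card (Cfsg.pPrimeCore p G) :=
  hp.out.coprime_iff_not_dvd.1 (pPrimeCore_coprime p G).symm

theorem coprime_iff_not_dvd' [hp : Fact p.Prime] {n : ℕ} : n.Coprime p ↔ ¬ p ∣ n := by
  rw [Nat.coprime_comm]; exact hp.out.coprime_iff_not_dvd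

omit [Finite G] in
theorem le_pPrimeCore {N : Subgroup G} [hN : N.Normal] (h : (Nat.card N).Coprime p) :
    N ≤ Cfsg.pPrimeCore p G :=
  le_sSup ⟨hN, h⟩

omit [Finite G] in
theorem le_pPrimeCore' {N : Subgroup G} (hN : N.Normal) (h : (Nat.card N).Coprime p) :
    N ≤ Cfsg.pPrimeCore p G :=
  le_sSup ⟨hN, h⟩

theorem map_pPrimeCore_le {G' : Type*} [Group G'] (f : G →* G') (hf : Function.Surjective f) :
    (Cfsg.pPrimeCore p G).map f ≤ Cfsg.pPrimeCore p G' :=
  le_pPrimeCore' (Subgroup.Normal.map inferInstance f hf)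
    (Nat.Coprime.coprime_dvd_left (card_map_dvd f _) (pPrimeCore_coprime p G))

theorem map_pPrimeCore_equiv {G' : Type*} [Group G'] [Finite G'] (e : G ≃* G') :
    (Cfsg.pPrimeCore p G).map e.toMonoidHom = Cfsg.pPrimeCore p G' := by
  refine le_antisymm (map_pPrimeCore_le _ e.surjective) ?_
  intro x hx
  exact ⟨e.symm x, map_pPrimeCore_le (p := p) e.symm.toMonoidHom e.symm.surjective ⟨x, hx, rfl⟩,
    e.apply_symm_apply x⟩

instance pPrimeCore_characteristic : (Cfsg.pPrimeCore p G).Characteristic :=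
  characteristic_iff_map_eq.2 fun e => map_pPrimeCore_equiv e

theorem pPrimeCore_map_le_of_normal {H K : Subgroup G} (hle : H ≤ K) (hN : (H.subgroupOf K).Normal) :
    (Cfsg.pPrimeCore p H).map H.subtype ≤ (Cfsg.pPrimeCore p K).map K.subtype := by
  have hle' : (Cfsg.pPrimeCore p H).map H.subtype ≤ K := (map_subtype_le _).trans hle
  rw [← map_subgroupOf_eq_of_le hle']
  refine map_mono (le_pPrimeCore' (subgroupOf_map_char_normal hle hN _) ?_)
  rw [Nat.card_congr (subgroupOfEquivOfLe hle').toEquiv, card_map_subtype]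
  exact pPrimeCore_coprime p H

omit [Finite G] in
theorem pPrimeCore_eq_top (h : (Nat.card G).Coprime p) : Cfsg.pPrimeCore p G = ⊤ :=
  top_le_iff.1 (le_pPrimeCore (by rwa [Subgroup.card_top]))

theorem pPrimeCore_map_le_of_isSubnormal {H : Subgroup G} (hH : H.IsSubnormal) :
    (Cfsg.pPrimeCore p H).map H.subtype ≤ Cfsg.pPrimeCore p G := by
  refine (le_of_isSubnormal (fun K => (Cfsg.pPrimeCore p K).map K.subtype)
    (fun _ _ => pPrimeCore_map_le_of_normal) hH).trans ?_
  exact map_pPrimeCore_le (⊤ : Subgroup G).subtype fun x => ⟨⟨x, trivial⟩, rfl⟩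

theorem le_pPrimeCore_of_isSubnormal {H : Subgroup G} (hH : H.IsSubnormal)
    (h : (Nat.card H).Coprime p) : H ≤ Cfsg.pPrimeCore p G := by
  have := pPrimeCore_map_le_of_isSubnormal (p := p) hH
  rwa [pPrimeCore_eq_top h, ← MonoidHom.range_eq_map, range_subtype] at this

theorem inf_pPrimeCore_le (H : Subgroup G) :
    Cfsg.pPrimeCore p G ⊓ H ≤ (Cfsg.pPrimeCore p H).map H.subtype := by
  rw [← map_subgroupOf_eq_of_le (inf_le_right : Cfsg.pPrimeCore p G ⊓ H ≤ H)]
  refine map_mono (le_pPrimeCore' ?_ ?_)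
  · rw [inf_subgroupOf_right]; infer_instance
  · rw [Nat.card_congr
      (subgroupOfEquivOfLe (inf_le_right : Cfsg.pPrimeCore p G ⊓ H ≤ H)).toEquiv]
    exact coprime_card_of_le inf_le_left (pPrimeCore_coprime p G)

theorem pPrimeCore_map_eq_inf_of_isSubnormal {H : Subgroup G} (hH : H.IsSubnormal) :
    (Cfsg.pPrimeCore p H).map H.subtype = Cfsg.pPrimeCore p G ⊓ H :=
  le_antisymm (le_inf (pPrimeCore_map_le_of_isSubnormal hH) (map_subtype_le _)) (inf_pPrimeCore_le H)

omit [Finite G] in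
theorem card_comap_eq {G' : Type*} [Group G'] (f : G →* G') (hf : Function.Surjective f)
    (M : Subgroup G') : Nat.card (M.comap f) = Nat.card f.ker * Nat.card M := by
  rw [← card_mul_relIndex (Subgroup.ker_le_comap f M)]
  congr 1
  rw [← MonoidHom.comap_bot, relIndex_comap, map_comap_eq_self_of_surjective hf, relIndex_bot_left]

theorem pPrimeCore_quotient_eq_bot : Cfsg.pPrimeCore p (G ⧸ Cfsg.pPrimeCore p G) = ⊥ := by
  set f := QuotientGroup.mk' (Cfsg.pPrimeCore p G) with hf
  set M := (Cfsg.pPrimeCore p (G ⧸ Cfsg.pPrimeCore p G)).comap f with hM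
  have hp : (Nat.card M).Coprime p := by
    rw [hM, card_comap_eq f (QuotientGroup.mk'_surjective _)]
    exact Nat.Coprime.mul_left (by rw [hf, QuotientGroup.ker_mk']; exact pPrimeCore_coprime p G)
      (pPrimeCore_coprime p _)
  have hle : M ≤ Cfsg.pPrimeCore p G := le_pPrimeCore' (Subgroup.Normal.comap inferInstance f) hp
  rw [← map_comap_eq_self_of_surjective (QuotientGroup.mk'_surjective _)
    (Cfsg.pPrimeCore p (G ⧸ Cfsg.pPrimeCore p G)), eq_bot_iff, ← hM]
  refine (map_mono hle).trans (le_of_eq ?_)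
  exact QuotientGroup.map_mk'_self _

theorem pCore_inf_pPrimeCore [Fact p.Prime] : Cfsg.pCore p G ⊓ Cfsg.pPrimeCore p G = ⊥ := by
  refine Subgroup.eq_bot_of_card_eq _ ?_
  refine Nat.eq_one_of_dvd_coprimes (b := Nat.card (Cfsg.pPrimeCore p G)) ?_
    (Subgroup.card_dvd_of_le inf_le_left) (Subgroup.card_dvd_of_le inf_le_right)
  obtain ⟨n, hn⟩ := IsPGroup.iff_card.1 (pCore_isPGroup p G)
  rw [hn]
  exact Nat.Coprime.pow_left n (pPrimeCore_coprime p G).symm

theorem commutator_pCore_pPrimeCore [Fact p.Prime] :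
    ⁅Cfsg.pCore p G, Cfsg.pPrimeCore p G⁆ = ⊥ :=
  commutator_eq_bot_of_disjoint (disjoint_iff.2 pCore_inf_pPrimeCore)

end pPrimeCore

/-! ### `O_π` -/

section piCore

variable {G : Type u} [Group G] [Finite G] {π : Set ℕ}

theorem piCore_isPiSub (π : Set ℕ) (G : Type u) [Group G] [Finite G] :
    IsPiSub π (Cfsg.piCore π G) :=
  (sSup_mem_of_sup_mem (S := {N : Subgroup G | N.Normal ∧ IsPiSub π N})
    ⟨inferInstance, isPiSub_bot π⟩
    fun a ha b hb => by
      have := ha.1; have := hb.1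
      exact ⟨Subgroup.sup_normal a b, ha.2.sup hb.2⟩).2

omit [Finite G] in
theorem le_piCore {N : Subgroup G} [hN : N.Normal] (h : IsPiSub π N) : N ≤ Cfsg.piCore π G :=
  le_sSup ⟨hN, h⟩

omit [Finite G] in
theorem le_piCore' {N : Subgroup G} (hN : N.Normal) (h : IsPiSub π N) : N ≤ Cfsg.piCore π G :=
  le_sSup ⟨hN, h⟩

theorem map_piCore_le {G' : Type u} [Group G'] (f : G →* G') (hf : Function.Surjective f) :
    (Cfsg.piCore π G).map f ≤ Cfsg.piCore π G' :=
  le_piCore' (Subgroup.Normal.map inferInstance f hf) ((piCore_isPiSub π G).map f)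

theorem map_piCore_equiv {G' : Type u} [Group G'] [Finite G'] (e : G ≃* G') :
    (Cfsg.piCore π G).map e.toMonoidHom = Cfsg.piCore π G' := by
  refine le_antisymm (map_piCore_le _ e.surjective) ?_
  intro x hx
  exact ⟨e.symm x, map_piCore_le (π := π) e.symm.toMonoidHom e.symm.surjective ⟨x, hx, rfl⟩,
    e.apply_symm_apply x⟩

instance piCore_characteristic : (Cfsg.piCore π G).Characteristic :=
  characteristic_iff_map_eq.2 fun e => map_piCore_equiv e

theorem piCore_map_le_of_normal {H K : Subgroup G} (hle : H ≤ K) (hN : (H.subgroupOf K).Normal) :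
    (Cfsg.piCore π H).map H.subtype ≤ (Cfsg.piCore π K).map K.subtype := by
  have hle' : (Cfsg.piCore π H).map H.subtype ≤ K := (map_subtype_le _).trans hle
  rw [← map_subgroupOf_eq_of_le hle']
  refine map_mono (le_piCore' (subgroupOf_map_char_normal hle hN _) ?_)
  intro q hq hd
  rw [Nat.card_congr (subgroupOfEquivOfLe hle').toEquiv, card_map_subtype] at hd
  exact piCore_isPiSub π H q hq hd

theorem le_piCore_of_isSubnormal {H : Subgroup G} (hH : H.IsSubnormal) (h : IsPiSub π H) :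
    H ≤ Cfsg.piCore π G := by
  have h1 : (Cfsg.piCore π H).map H.subtype ≤ Cfsg.piCore π G := by
    refine (le_of_isSubnormal (fun K => (Cfsg.piCore π K).map K.subtype)
      (fun _ _ => piCore_map_le_of_normal) hH).trans ?_
    exact map_piCore_le (⊤ : Subgroup G).subtype fun x => ⟨⟨x, trivial⟩, rfl⟩
  have h2 : Cfsg.piCore π H = ⊤ := top_le_iff.1 <| le_piCore fun q hq hd =>
    h q hq (by rwa [Subgroup.card_top] at hd)
  rwa [h2, ← MonoidHom.range_eq_map, range_subtype] at h1

theorem piCore_quotient_eq_bot : Cfsg.piCore π (G ⧸ Cfsg.piCore π G) = ⊥ := by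
  set f := QuotientGroup.mk' (Cfsg.piCore π G) with hf
  set M := (Cfsg.piCore π (G ⧸ Cfsg.piCore π G)).comap f with hM
  have hp : IsPiSub π M := by
    intro q hq hd
    rw [hM, card_comap_eq f (QuotientGroup.mk'_surjective _)] at hd
    rcases hq.dvd_mul.1 hd with h | h
    · rw [hf, QuotientGroup.ker_mk'] at h; exact piCore_isPiSub π G q hq h
    · exact piCore_isPiSub π _ q hq h
  have hle : M ≤ Cfsg.piCore π G := le_piCore' (Subgroup.Normal.comap inferInstance f) hp
  rw [← map_comap_eq_self_of_surjective (QuotientGroup.mk'_surjective _)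
    (Cfsg.piCore π (G ⧸ Cfsg.piCore π G)), eq_bot_iff, ← hM]
  refine (map_mono hle).trans (le_of_eq ?_)
  exact QuotientGroup.map_mk'_self _

end piCore

end Cfsg.Lib.Core
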