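import Cfsg.Agent.Lib.Core.Cores
import Mathlib.GroupTheory.Nilpotent
import Mathlib.GroupTheory.Solvable

/-!
The Fitting subgroup of a finite group.
-/

set_option autoImplicit false

namespace Cfsg.Lib.Core

open Subgroup

variable {G : Type*} [Group G]

theorem isNilpotent_of_le {H K : Subgroup G} (hle : H ≤ K) (hK : Group.IsNilpotent K) :
    Group.IsNilpotent H :=
  have := hK
  Group.nilpotent_of_mulEquiv (subgroupOfEquivOfLe hle)

theorem isSolvable_of_le {H K : Subgroup G} (hle : H ≤ K) (hK : Group.IsSolvable K) :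
    Group.IsSolvable H :=
  have := hK
  Group.isSolvable_of_isSolvable_injective (Subgroup.inclusion_injective hle)

theorem isNilpotent_map {G' : Type*} [Group G'] {H : Subgroup G} (hH : Group.IsNilpotent H)
    (f : G →* G') : Group.IsNilpotent (H.map f) :=
  have := hH
  Group.nilpotent_of_surjective (f.subgroupMap H) (f.subgroupMap_surjective H)

theorem isSolvable_map {G' : Type*} [Group G'] {H : Subgroup G} (hH : Group.IsSolvable H)
    (f : G →* G') : Group.IsSolvable (H.map f) :=
  have := hH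
  Group.isSolvable_of_surjective (f.subgroupMap_surjective H)

theorem isSolvable_of_isMulCommutative (H : Type*) [Group H] [IsMulCommutative H] : Group.IsSolvable H :=
  Group.isSolvable_of_comm fun a b => mul_comm' a b

theorem isNilpotent_of_isMulCommutative (H : Type*) [Group H] [IsMulCommutative H] : Group.IsNilpotent H :=
  Subgroup.isNilpotent_of_ker_le_center (1 : H →* PUnit.{1}) (fun x _ => Subgroup.mem_center_iff.2
    fun y => mul_comm' y x)

variable [Finite G]

/-- A finite group all of whose Sylow subgroups lie in the corresponding `O_p` is nilpotent. -/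
theorem isNilpotent_of_isPGroup_sylow (h : ∀ (p : ℕ) (_ : Fact p.Prime) (P : Sylow p G), (P : Subgroup G) ≤ Cfsg.pCore p G) :
    Group.IsNilpotent G :=
  (Group.isNilpotent_of_finite_tfae.out 0 3 rfl rfl).2 fun p hp P => by
    rw [le_antisymm (h p hp P) (pCore_le_sylow P)]; infer_instance

theorem iSup_pCore_isNilpotent : Group.IsNilpotent ↥(⨆ p : Nat.Primes, Cfsg.pCore (p : ℕ) G) := by
  set J := ⨆ p : Nat.Primes, Cfsg.pCore (p : ℕ) G with hJ
  refine (Group.isNilpotent_of_finite_tfae.out 0 3 rfl rfl).2 fun r hr P => ?_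
  have : Fact r.Prime := hr
  set O := Cfsg.pCore r G with hO
  set M := ⨆ q : {q : Nat.Primes // (q : ℕ) ≠ r}, Cfsg.pCore (q : ℕ) G with hM
  have hOJ : O ≤ J := le_iSup (fun p : Nat.Primes => Cfsg.pCore (p : ℕ) G) ⟨r, hr.out⟩
  have hMmem : M ∈ {N : Subgroup G | N.Normal ∧ (Nat.card N).Coprime r} := by
    refine iSup_mem_of_sup_mem (S := {N : Subgroup G | N.Normal ∧ (Nat.card N).Coprime r})
      ⟨inferInstance, by simp⟩ (fun a ha b hb => ?_) _ fun q => ⟨inferInstance, ?_⟩
    · have := ha.1; have := hb.1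
      exact ⟨Subgroup.sup_normal a b, coprime_card_sup ha.2 hb.2⟩
    · have : Fact (q.1 : ℕ).Prime := ⟨q.1.2⟩
      obtain ⟨n, hn⟩ := IsPGroup.iff_card.1 (pCore_isPGroup (q.1 : ℕ) G)
      rw [hn]
      exact Nat.Coprime.pow_left n ((Nat.coprime_primes q.1.2 hr.out).2 q.2)
  have hJle : J ≤ M ⊔ O := iSup_le fun q => by
    by_cases hq : (q : ℕ) = r
    · rw [hq]; exact le_sup_right
    · exact (le_iSup (fun q : {q : Nat.Primes // (q : ℕ) ≠ r} => Cfsg.pCore (q : ℕ) G) ⟨q, hq⟩).trans le_sup_left
  have hidx : ¬ r ∣ O.relIndex J := fun hd => by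
    have h1 : r ∣ O.relIndex (M ⊔ O) := hd.trans ⟨J.relIndex (M ⊔ O), by
      rw [relIndex_mul_relIndex _ _ _ hOJ hJle]⟩
    rw [relIndex_sup_right] at h1
    exact hr.out.coprime_iff_not_dvd.1 hMmem.2.symm (h1.trans (relIndex_dvd_card O M))
  have hp : IsPGroup r (O.subgroupOf J) := (pCore_isPGroup r G).comap_subtype
  have hidx' : ¬ r ∣ (O.subgroupOf J).index := hidx
  set Q : Sylow r J := hp.toSylow hidx' with hQ
  have hQn : (Q : Subgroup J).Normal := (inferInstance : (O.subgroupOf J).Normal)
  let _ := Sylow.unique_of_normal Q hQn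
  rw [Subsingleton.elim P Q]; exact hQn

theorem le_iSup_pCore_of_normal {N : Subgroup G} [N.Normal] (h : Group.IsNilpotent N) :
    N ≤ ⨆ p : Nat.Primes, Cfsg.pCore (p : ℕ) G := by
  have hS : ∀ (p : Nat.Primes) (P : Sylow (p : ℕ) N),
      (P : Subgroup N).map N.subtype ≤ Cfsg.pCore (p : ℕ) G := fun p P => by
    have : Fact (p : ℕ).Prime := ⟨p.2⟩
    have := Sylow.characteristic_of_normal P inferInstance
    exact le_pCore' (normal_map_char_of_normal _) (P.isPGroup'.map _)
  have hidx : (⨆ p : Nat.Primes, Cfsg.pCore (p : ℕ) G).subgroupOf N = ⊤ := by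
    rw [← index_eq_one]
    by_contra hne
    obtain ⟨q, hq, hd⟩ := Nat.exists_prime_and_dvd hne
    have : Fact q.Prime := ⟨hq⟩
    obtain ⟨P⟩ : Nonempty (Sylow q N) := inferInstance
    refine P.not_dvd_index (hd.trans ?_)
    refine index_dvd_of_le fun x hx => ?_
    exact le_iSup (fun p : Nat.Primes => Cfsg.pCore (p : ℕ) G) ⟨q, hq⟩ (hS ⟨q, hq⟩ P ⟨x, hx, rfl⟩)
  intro x hx
  exact mem_subgroupOf.1 (hidx ▸ mem_top (⟨x, hx⟩ : N))

theorem fittingSubgroup_eq_iSup_pCore :
    Cfsg.fittingSubgroup G = ⨆ p : Nat.Primes, Cfsg.pCore (p : ℕ) G := by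
  refine le_antisymm (sSup_le fun N hN => ?_) (iSup_le fun p => ?_)
  · have := hN.1; exact le_iSup_pCore_of_normal hN.2
  · have : Fact (p : ℕ).Prime := ⟨p.2⟩
    exact le_sSup ⟨inferInstance, (pCore_isPGroup (p : ℕ) G).isNilpotent⟩

theorem fittingSubgroup_isNilpotent (G : Type*) [Group G] [Finite G] :
    Group.IsNilpotent (Cfsg.fittingSubgroup G) := by
  rw [fittingSubgroup_eq_iSup_pCore]; exact iSup_pCore_isNilpotent

omit [Finite G] in
theorem fittingSubgroup_normal' (G : Type*) [Group G] : (Cfsg.fittingSubgroup G).Normal :=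
  Subgroup.sSup_normal _ fun _ h => h.1

omit [Finite G] in
theorem le_fittingSubgroup {N : Subgroup G} [hN : N.Normal] (h : Group.IsNilpotent N) :
    N ≤ Cfsg.fittingSubgroup G := le_sSup ⟨hN, h⟩

omit [Finite G] in
theorem le_fittingSubgroup' {N : Subgroup G} (hN : N.Normal) (h : Group.IsNilpotent N) :
    N ≤ Cfsg.fittingSubgroup G := le_sSup ⟨hN, h⟩

theorem pCore_le_fittingSubgroup (p : ℕ) [Fact p.Prime] (G : Type*) [Group G] [Finite G] :
    Cfsg.pCore p G ≤ Cfsg.fittingSubgroup G :=
  le_fittingSubgroup (pCore_isPGroup p G).isNilpotent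

theorem map_fittingSubgroup_le {G' : Type*} [Group G'] (f : G →* G') (hf : Function.Surjective f) :
    (Cfsg.fittingSubgroup G).map f ≤ Cfsg.fittingSubgroup G' :=
  le_fittingSubgroup' (Subgroup.Normal.map (fittingSubgroup_normal' G) f hf)
    (isNilpotent_map (fittingSubgroup_isNilpotent G) f)

theorem map_fittingSubgroup_equiv {G' : Type*} [Group G'] [Finite G'] (e : G ≃* G') :
    (Cfsg.fittingSubgroup G).map e.toMonoidHom = Cfsg.fittingSubgroup G' := by
  refine le_antisymm (map_fittingSubgroup_le _ e.surjective) ?_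
  intro x hx
  exact ⟨e.symm x, map_fittingSubgroup_le e.symm.toMonoidHom e.symm.surjective ⟨x, hx, rfl⟩,
    e.apply_symm_apply x⟩

instance fittingSubgroup_characteristic : (Cfsg.fittingSubgroup G).Characteristic :=
  characteristic_iff_map_eq.2 fun e => map_fittingSubgroup_equiv e

omit [Finite G] in
theorem fittingSubgroup_eq_top (h : Group.IsNilpotent G) : Cfsg.fittingSubgroup G = ⊤ :=
  top_le_iff.1 (le_fittingSubgroup inferInstance)

theorem fittingSubgroup_map_le_of_normal {H K : Subgroup G} (hle : H ≤ K)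
    (hN : (H.subgroupOf K).Normal) :
    (Cfsg.fittingSubgroup H).map H.subtype ≤ (Cfsg.fittingSubgroup K).map K.subtype := by
  have hle' : (Cfsg.fittingSubgroup H).map H.subtype ≤ K := (map_subtype_le _).trans hle
  rw [← map_subgroupOf_eq_of_le hle']
  have := isNilpotent_map (fittingSubgroup_isNilpotent H) H.subtype
  exact map_mono (le_fittingSubgroup' (subgroupOf_map_char_normal hle hN _)
    (Group.nilpotent_of_mulEquiv (subgroupOfEquivOfLe hle').symm))

theorem fittingSubgroup_map_le_of_isSubnormal {H : Subgroup G} (hH : H.IsSubnormal) :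
    (Cfsg.fittingSubgroup H).map H.subtype ≤ Cfsg.fittingSubgroup G := by
  refine (le_of_isSubnormal (fun K => (Cfsg.fittingSubgroup K).map K.subtype)
    (fun _ _ => fittingSubgroup_map_le_of_normal) hH).trans ?_
  exact map_fittingSubgroup_le (⊤ : Subgroup G).subtype fun x => ⟨⟨x, trivial⟩, rfl⟩

theorem le_fittingSubgroup_of_isSubnormal {H : Subgroup G} (hH : H.IsSubnormal)
    (h : Group.IsNilpotent H) : H ≤ Cfsg.fittingSubgroup G := by
  have := fittingSubgroup_map_le_of_isSubnormal hH
  rwa [fittingSubgroup_eq_top h, ← MonoidHom.range_eq_map, range_subtype] at this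

theorem inf_fittingSubgroup_le (H : Subgroup G) :
    Cfsg.fittingSubgroup G ⊓ H ≤ (Cfsg.fittingSubgroup H).map H.subtype := by
  rw [← map_subgroupOf_eq_of_le (inf_le_right : Cfsg.fittingSubgroup G ⊓ H ≤ H)]
  refine map_mono ?_
  have h1 : Group.IsNilpotent (Cfsg.fittingSubgroup G ⊓ H : Subgroup G) :=
    isNilpotent_of_le inf_le_left (fittingSubgroup_isNilpotent G)
  refine le_fittingSubgroup' ?_ (Group.nilpotent_of_mulEquiv (subgroupOfEquivOfLe inf_le_right).symm)
  have := fittingSubgroup_normal' G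
  rw [inf_subgroupOf_right]; infer_instance

theorem fittingSubgroup_map_eq_inf_of_isSubnormal {H : Subgroup G} (hH : H.IsSubnormal) :
    (Cfsg.fittingSubgroup H).map H.subtype = Cfsg.fittingSubgroup G ⊓ H :=
  le_antisymm (le_inf (fittingSubgroup_map_le_of_isSubnormal hH) (map_subtype_le _))
    (inf_fittingSubgroup_le H)

omit [Finite G] in
/-- The centre of a group is contained in its Fitting subgroup. -/
theorem center_le_fittingSubgroup : Subgroup.center G ≤ Cfsg.fittingSubgroup G :=
  le_fittingSubgroup (isNilpotent_of_isMulCommutative _)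

/-- The centre of a subnormal subgroup lies in the Fitting subgroup. -/
theorem center_map_le_fittingSubgroup {H : Subgroup G} (hH : H.IsSubnormal) :
    (Subgroup.center H).map H.subtype ≤ Cfsg.fittingSubgroup G :=
  (map_mono center_le_fittingSubgroup).trans (fittingSubgroup_map_le_of_isSubnormal hH)

end Cfsg.Lib.Core
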