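import Cfsg.Prelude.Def_Local
import Cfsg.Agent.Lib.Core.Fitting
import Mathlib.GroupTheory.SchurZassenhaus

/-!
Minimal normal subgroups, chains of normal subgroups with restricted factors (`p`-solvable and
`π`-separable groups) and the lemma of Hall and Higman.
-/

set_option autoImplicit false

namespace Cfsg.Lib.Core

open Subgroup

universe u

variable {G : Type*} [Group G]

/-! ### Minimal normal subgroups -/

/-- `M` is a minimal normal subgroup. -/
def IsMinNormal (M : Subgroup G) : Prop :=
  M.Normal ∧ M ≠ ⊥ ∧ ∀ K : Subgroup G, K.Normal → K ≤ M → K = ⊥ ∨ K = M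

theorem exists_isMinNormal [Finite G] {N : Subgroup G} (hN : N.Normal) (hne : N ≠ ⊥) :
    ∃ M : Subgroup G, IsMinNormal M ∧ M ≤ N := by
  obtain ⟨M, ⟨hMn, hMne, hMN⟩, hmin⟩ :=
    Set.Finite.exists_minimal (s := {K : Subgroup G | K.Normal ∧ K ≠ ⊥ ∧ K ≤ N})
      (Set.toFinite _) ⟨N, hN, hne, le_rfl⟩
  refine ⟨M, ⟨hMn, hMne, fun K hK hKM => ?_⟩, hMN⟩
  by_contra h
  push Not at h
  exact h.2 (le_antisymm hKM (hmin ⟨hK, h.1, hKM.trans hMN⟩ hKM))

theorem exists_isMinNormal_univ [Finite G] [Nontrivial G] : ∃ M : Subgroup G, IsMinNormal M := by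
  obtain ⟨M, hM, -⟩ := exists_isMinNormal (N := (⊤ : Subgroup G)) inferInstance top_ne_bot
  exact ⟨M, hM⟩

theorem IsMinNormal.inf_eq_bot_or_le {M : Subgroup G} (hM : IsMinNormal M) (N : Subgroup G) [N.Normal] :
    M ⊓ N = ⊥ ∨ M ≤ N := by
  have := hM.1
  rcases hM.2.2 (M ⊓ N) inferInstance inf_le_left with h | h
  · exact Or.inl h
  · exact Or.inr (inf_eq_left.1 h)

theorem isMulCommutative_of_minimal_solvable {M : Subgroup G} (hM : IsMinNormal M)
    (hsolv : Group.IsSolvable M) : IsMulCommutative M := by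
  have := hM.1
  rw [← commutator_self_eq_bot_iff]
  rcases hM.2.2 ⁅M, M⁆ inferInstance (commutator_le_self M) with h | h
  · exact h
  · have : Nontrivial M := (Subgroup.nontrivial_iff_ne_bot M).2 hM.2.1
    have : Group.IsPerfect M := Subgroup.isPerfect_iff.2 h
    exact absurd hsolv (Group.IsPerfect.not_isSolvable M)

/-- A solvable minimal normal subgroup of a finite group is elementary abelian. -/
theorem minimal_solvable_elementary [Finite G] {M : Subgroup G} (hM : IsMinNormal M)
    (hsolv : Group.IsSolvable M) :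
    IsMulCommutative M ∧ ∃ p : ℕ, p.Prime ∧ (∀ x ∈ M, x ^ p = 1) ∧ IsPGroup p M := by
  have hab := isMulCommutative_of_minimal_solvable hM hsolv
  refine ⟨hab, ?_⟩
  have := hM.1
  have hne : Nat.card M ≠ 1 := fun h => hM.2.1 (Subgroup.eq_bot_of_card_eq M h)
  obtain ⟨p, hp, hpd⟩ := Nat.exists_prime_and_dvd hne
  have : Fact p.Prime := ⟨hp⟩
  let T : Subgroup G :=
    { carrier := {x | x ∈ M ∧ x ^ p = 1}
      one_mem' := ⟨one_mem M, one_pow p⟩
      mul_mem' := by
        rintro a b ⟨ha, ha'⟩ ⟨hb, hb'⟩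
        refine ⟨mul_mem ha hb, ?_⟩
        have hc : Commute a b :=
          congrArg Subtype.val (mul_comm' (⟨a, ha⟩ : M) ⟨b, hb⟩)
        rw [hc.mul_pow, ha', hb', one_mul]
      inv_mem' := by
        rintro a ⟨ha, ha'⟩
        exact ⟨inv_mem ha, by rw [inv_pow, ha', inv_one]⟩ }
  have hTn : T.Normal := ⟨fun x hx g => ⟨hM.1.conj_mem x hx.1 g, by rw [conj_pow, hx.2]; simp⟩⟩
  have hT : T = M := by
    refine (hM.2.2 T hTn fun x hx => hx.1).resolve_left fun h => ?_
    obtain ⟨x, hx⟩ := exists_prime_orderOf_dvd_card' (G := M) p hpd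
    have h1 : (x : G) ∈ T := ⟨x.2, by rw [← hx, ← Subgroup.orderOf_coe, pow_orderOf_eq_one]⟩
    rw [h, mem_bot] at h1
    rw [← Subgroup.orderOf_coe, h1, orderOf_one] at hx
    exact hp.one_lt.ne hx
  have hpow : ∀ x ∈ M, x ^ p = 1 := fun x hx => (hT.symm ▸ hx : x ∈ T).2
  exact ⟨p, hp, hpow, fun x => ⟨1, Subtype.ext (by simpa using hpow x x.2)⟩⟩

/-! ### Chains with restricted factors -/

/-- A chain of normal subgroups from `⊥` to `⊤` all whose factor orders satisfy `P`. -/
def HasFactorChain (P : ℕ → Prop) (G : Type*) [Group G] : Prop :=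
  ∃ (n : ℕ) (H : Fin (n + 1) → Subgroup G),
    H 0 = ⊥ ∧ H (Fin.last n) = ⊤ ∧ Monotone H ∧ (∀ i, (H i).Normal) ∧
    ∀ i : Fin n, P ((H i.castSucc).relIndex (H i.succ))

/-- `P` is inherited by divisors. -/
def DvdClosed (P : ℕ → Prop) : Prop := ∀ a b : ℕ, a ∣ b → P b → P a

theorem relIndex_dvd_of_le_right_of_normal {A B C : Subgroup G} [A.Normal] (hAB : A ≤ B) (hCB : C ≤ B) :
    A.relIndex C ∣ A.relIndex B := by
  rw [← relIndex_sup_left (K := A) (H := C)]
  exact Dvd.intro _ (relIndex_mul_relIndex A (A ⊔ C) B le_sup_left (sup_le hAB hCB))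

theorem HasFactorChain.of_injective {P : ℕ → Prop} (hP : DvdClosed P) {G' : Type*} [Group G']
    (f : G' →* G) (hf : Function.Injective f) (h : HasFactorChain P G) : HasFactorChain P G' := by
  obtain ⟨n, H, h0, hl, hm, hn, hi⟩ := h
  refine ⟨n, fun i => (H i).comap f, ?_, ?_, fun i j hij => comap_mono (hm hij),
    fun i => (hn i).comap f, fun i => hP _ _ ?_ (hi i)⟩
  · simp only [h0, MonoidHom.comap_bot, MonoidHom.ker_eq_bot_iff]; exact hf
  · simp only [hl, comap_top]
  · have := hn i.castSucc
    rw [relIndex_comap]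
    exact relIndex_dvd_of_le_right_of_normal (hm (Fin.castSucc_le_succ _)) (map_comap_le f _)

theorem HasFactorChain.of_surjective {P : ℕ → Prop} (hP : DvdClosed P) {G' : Type*} [Group G']
    (f : G →* G') (hf : Function.Surjective f) (h : HasFactorChain P G) : HasFactorChain P G' := by
  obtain ⟨n, H, h0, hl, hm, hn, hi⟩ := h
  refine ⟨n, fun i => (H i).map f, ?_, ?_, fun i j hij => map_mono (hm hij),
    fun i => (hn i).map f hf, fun i => hP _ _ ?_ (hi i)⟩
  · simp only [h0, Subgroup.map_bot]
  · simp only [hl]; exact Subgroup.map_top_of_surjective f hf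
  · have := hn i.castSucc
    have hle : H i.castSucc ≤ H i.succ := hm (Fin.castSucc_le_succ _)
    rw [relIndex_map_map]
    set A := H i.castSucc ⊔ f.ker with hA
    have hAn : A.Normal := Subgroup.sup_normal _ _
    have : H i.succ ⊔ f.ker = A ⊔ H i.succ := by
      rw [hA, sup_right_comm, sup_eq_right.2 hle]
    rw [this, relIndex_sup_left]
    exact relIndex_dvd_of_le_left _ le_sup_left

theorem HasFactorChain.quotient {P : ℕ → Prop} (hP : DvdClosed P) (N : Subgroup G) [N.Normal]
    (h : HasFactorChain P G) : HasFactorChain P (G ⧸ N) :=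
  h.of_surjective hP (QuotientGroup.mk' N) (QuotientGroup.mk'_surjective N)

theorem HasFactorChain.subgroup {P : ℕ → Prop} (hP : DvdClosed P) (H : Subgroup G)
    (h : HasFactorChain P G) : HasFactorChain P H :=
  h.of_injective hP H.subtype H.subtype_injective

theorem HasFactorChain.minimal_normal {P : ℕ → Prop} (hP : DvdClosed P) (h : HasFactorChain P G)
    {M : Subgroup G} (hM : IsMinNormal M) : P (Nat.card M) := by
  obtain ⟨n, H, h0, hl, hm, hn, hi⟩ := h
  have hex : ∀ i : Fin (n + 1), M ≤ H i → P (Nat.card M) := by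
    intro i
    induction i using Fin.induction with
    | zero => intro hle; exact absurd (le_bot_iff.1 (h0 ▸ hle)) hM.2.1
    | succ i ih =>
      intro hle
      have := hn i.castSucc
      rcases hM.inf_eq_bot_or_le (H i.castSucc) with h | h
      · refine hP _ _ ?_ (hi i)
        have h1 : (H i.castSucc).relIndex M = Nat.card M := by
          rw [← inf_relIndex_left, h, relIndex_bot_left]
        rw [← h1]
        exact relIndex_dvd_of_le_right_of_normal (hm (Fin.castSucc_le_succ _)) hle
      · exact ih h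
  exact hex (Fin.last n) (hl ▸ le_top)

theorem HasFactorChain.of_subsingleton (P : ℕ → Prop) [Subsingleton G] : HasFactorChain P G :=
  ⟨0, fun _ => ⊥, rfl, Subsingleton.elim _ _, fun _ _ _ => le_rfl, fun _ => inferInstance,
    fun i => i.elim0⟩

theorem HasFactorChain.extension {P : ℕ → Prop} (N : Subgroup G) [hNn : N.Normal]
    (hN : P (Nat.card N)) (h : HasFactorChain P (G ⧸ N)) : HasFactorChain P G := by
  obtain ⟨n, H, h0, hl, hm, hn, hi⟩ := h
  set f := QuotientGroup.mk' N with hf
  refine ⟨n + 1, Fin.cons ⊥ (fun i => (H i).comap f), by simp, ?_, ?_, ?_, ?_⟩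
  · rw [← Fin.succ_last, Fin.cons_succ, hl, comap_top]
  · intro a b hab
    cases a using Fin.cases with
    | zero => simp
    | succ a =>
      cases b using Fin.cases with
      | zero => simp at hab
      | succ b => simpa using comap_mono (f := f) (hm (Fin.succ_le_succ_iff.1 hab))
  · intro i
    cases i using Fin.cases with
    | zero => simp
    | succ i => simpa using (hn i).comap f
  · intro i
    cases i using Fin.cases with
    | zero =>
      rw [Fin.castSucc_zero, Fin.cons_zero, Fin.cons_succ, relIndex_bot_left, h0,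
        MonoidHom.comap_bot, hf, QuotientGroup.ker_mk']
      exact hN
    | succ i =>
      rw [← Fin.succ_castSucc, Fin.cons_succ, Fin.cons_succ, relIndex_comap,
        map_comap_eq_self_of_surjective (QuotientGroup.mk'_surjective N)]
      exact hi i

/-- A finite solvable group has such a chain as soon as `P` holds at all prime powers. -/
theorem hasFactorChain_of_isSolvable {P : ℕ → Prop} (hP : ∀ q k : ℕ, q.Prime → P (q ^ k)) :
    ∀ (n : ℕ) (G : Type u) [Group G] [Finite G] [Group.IsSolvable G], Nat.card G ≤ n →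
      HasFactorChain P G := by
  intro n
  induction n with
  | zero => intro G _ _ _ h; have := Nat.card_pos (α := G); omega
  | succ n ih =>
    intro G _ _ _ hn
    rcases subsingleton_or_nontrivial G with hG | hG
    · exact HasFactorChain.of_subsingleton P
    · obtain ⟨M, hM⟩ := exists_isMinNormal_univ (G := G)
      have := hM.1
      obtain ⟨-, q, hq, -, hp⟩ := minimal_solvable_elementary hM inferInstance
      have : Fact q.Prime := ⟨hq⟩
      obtain ⟨k, hk⟩ := IsPGroup.iff_card.1 hp
      refine HasFactorChain.extension M (hk ▸ hP q k hq) (ih _ ?_)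
      have := card_quotient_lt hM.2.1
      omega

/-! ### `p`-solvable groups -/

/-- The factor condition of `p`-solvability. -/
def PFactor (p d : ℕ) : Prop := (∃ m : ℕ, d = p ^ m) ∨ d.Coprime p

theorem pFactor_dvdClosed {p : ℕ} [hp : Fact p.Prime] : DvdClosed (PFactor p) := by
  rintro a b hab (⟨m, rfl⟩ | h)
  · obtain ⟨k, -, rfl⟩ := (Nat.dvd_prime_pow hp.out).1 hab
    exact Or.inl ⟨k, rfl⟩
  · exact Or.inr (Nat.Coprime.coprime_dvd_left hab h)

theorem isPSolvable_iff (p : ℕ) : Cfsg.IsPSolvable p G ↔ HasFactorChain (PFactor p) G := Iff.rfl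

section

variable {p : ℕ} [hp : Fact p.Prime]

theorem isPSolvable_subgroup (h : Cfsg.IsPSolvable p G) (H : Subgroup G) : Cfsg.IsPSolvable p H :=
  HasFactorChain.subgroup pFactor_dvdClosed H h

theorem isPSolvable_quotient (h : Cfsg.IsPSolvable p G) (N : Subgroup G) [N.Normal] :
    Cfsg.IsPSolvable p (G ⧸ N) :=
  HasFactorChain.quotient pFactor_dvdClosed N h

theorem isPSolvable_of_surjective {G' : Type*} [Group G'] (f : G →* G') (hf : Function.Surjective f)
    (h : Cfsg.IsPSolvable p G) : Cfsg.IsPSolvable p G' :=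
  HasFactorChain.of_surjective pFactor_dvdClosed f hf h

theorem isPSolvable_of_isSolvable [Finite G] [Group.IsSolvable G] : Cfsg.IsPSolvable p G := by
  refine hasFactorChain_of_isSolvable (P := PFactor p) (fun q k hq => ?_) (Nat.card G) G le_rfl
  rcases eq_or_ne q p with rfl | h
  · exact Or.inl ⟨k, rfl⟩
  · exact Or.inr (Nat.Coprime.pow_left k ((Nat.coprime_primes hq hp.out).2 h))

theorem isPSolvable_of_isPGroup [Finite G] (h : IsPGroup p G) : Cfsg.IsPSolvable p G :=
  have := h.isNilpotent
  isPSolvable_of_isSolvable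

/-- The minimal normal subgroups of a `p`-solvable group are `p`-groups or `p'`-groups. -/
theorem minimal_normal_of_isPSolvable (h : Cfsg.IsPSolvable p G) {M : Subgroup G} (hM : IsMinNormal M) :
    IsPGroup p M ∨ (Nat.card M).Coprime p :=
  (HasFactorChain.minimal_normal pFactor_dvdClosed h hM).imp (fun ⟨_, hm⟩ => IsPGroup.of_card hm) id

theorem pCore_ne_bot_of_isPSolvable [Finite G] [Nontrivial G] (h : Cfsg.IsPSolvable p G)
    (hO : Cfsg.pPrimeCore p G = ⊥) : Cfsg.pCore p G ≠ ⊥ := by
  obtain ⟨M, hM⟩ := exists_isMinNormal_univ (G := G)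
  rcases minimal_normal_of_isPSolvable h hM with h' | h'
  · exact fun hb => hM.2.1 (le_bot_iff.1 (hb ▸ le_pCore' hM.1 h'))
  · exact absurd (le_bot_iff.1 (hO ▸ le_pPrimeCore' hM.1 h')) hM.2.1

/-- Hall–Higman 1.2.3. -/
theorem centralizer_pCore_le_of_isPSolvable [Finite G] (h : Cfsg.IsPSolvable p G)
    (hO : Cfsg.pPrimeCore p G = ⊥) :
    centralizer (Cfsg.pCore p G : Set G) ≤ Cfsg.pCore p G := by
  set O := Cfsg.pCore p G with hOdef
  set C := centralizer (O : Set G) with hCdef
  set Z := C ⊓ O with hZdef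
  by_contra hne
  have hZn : Z.Normal := inferInstance
  set f := QuotientGroup.mk' Z with hf
  have hCmap : C.map f ≠ ⊥ := by
    rw [ne_eq, Subgroup.map_eq_bot_iff, hf, QuotientGroup.ker_mk']
    exact fun hle => hne (hle.trans inf_le_right)
  obtain ⟨M, hM, hMC⟩ := exists_isMinNormal (Subgroup.Normal.map inferInstance f (QuotientGroup.mk'_surjective Z)) hCmap
  set K := M.comap f with hK
  have hKn : K.Normal := hM.1.comap f
  have hZK : Z ≤ K := by
    exact (QuotientGroup.ker_mk' Z).symm.trans_le (ker_le_comap f M)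
  have hKC : K ≤ C := by
    refine (comap_mono hMC).trans (le_of_eq ?_)
    rw [comap_map_eq, hf, QuotientGroup.ker_mk', sup_eq_left]
    exact inf_le_left
  have hKM : K.map f = M := map_comap_eq_self_of_surjective (QuotientGroup.mk'_surjective Z) M
  rcases minimal_normal_of_isPSolvable (isPSolvable_quotient h Z) hM with hp' | hcop
  · have hKp : IsPGroup p K := by
      refine hp'.comap_of_ker_isPGroup f ?_
      rw [hf, QuotientGroup.ker_mk']
      exact (pCore_isPGroup p G).to_le inf_le_right
    refine hM.2.1 ?_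
    rw [← hKM, Subgroup.map_eq_bot_iff, hf, QuotientGroup.ker_mk']
    exact le_inf hKC (le_pCore' hKn hKp)
  · have hidx : (Z.subgroupOf K).index = Nat.card M := by
      have e : Z = (⊥ : Subgroup (G ⧸ Z)).comap f := by rw [MonoidHom.comap_bot, hf, QuotientGroup.ker_mk']
      calc (Z.subgroupOf K).index = ((⊥ : Subgroup (G ⧸ Z)).comap f).relIndex K :=
            congrArg (fun X : Subgroup G => X.relIndex K) e
        _ = Nat.card M := by rw [relIndex_comap, hKM, relIndex_bot_left]
    have hcop' : (Nat.card (Z.subgroupOf K)).Coprime (Z.subgroupOf K).index := by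
      rw [hidx, Nat.card_congr (subgroupOfEquivOfLe hZK).toEquiv]
      obtain ⟨m, hm⟩ := IsPGroup.iff_card.1 ((pCore_isPGroup p G).to_le (inf_le_right : Z ≤ O))
      rw [hm]
      exact Nat.Coprime.pow_left m hcop.symm
    obtain ⟨H, hH⟩ := Subgroup.exists_right_complement'_of_coprime hcop'
    have hHn : H.Normal := by
      rw [← normalizer_eq_top_iff, eq_top_iff, ← hH.sup_eq_top]
      refine sup_le ?_ le_normalizer
      intro z hz
      refine centralizer_le_normalizer _ (mem_centralizer_iff.2 fun y _ => Subtype.ext ?_)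
      exact (mem_centralizer_iff.1 (hKC y.2) z (hz : (z : G) ∈ Z).2).symm
    have hHsn : (H.map K.subtype).IsSubnormal := hHn.isSubnormal.trans' hKn.isSubnormal
    have hHcop : (Nat.card (H.map K.subtype)).Coprime p := by
      rw [card_map_subtype, ← hH.symm.index_eq_card, hidx]
      exact hcop
    have hHbot : H.map K.subtype = ⊥ := le_bot_iff.1 (hO ▸ le_pPrimeCore_of_isSubnormal hHsn hHcop)
    rw [Subgroup.map_eq_bot_iff_of_injective _ K.subtype_injective] at hHbot
    refine hM.2.1 (Subgroup.eq_bot_of_card_eq M ?_)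
    rw [← hidx, hH.symm.index_eq_card, hHbot, Subgroup.card_bot]

end

end Cfsg.Lib.Core
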