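import Cfsg.Prelude.Def_Local
import Cfsg.Agent.Lib.Core.Fitting
import Mathlib.GroupTheory.IsPerfect

/-!
Components, the layer `E(G)` and the generalized Fitting subgroup `F*(G)` of a finite group.
-/

set_option autoImplicit false

namespace Cfsg.Lib.Core

open Subgroup

universe u

variable {G : Type*} [Group G]

/-! ### Quasisimple groups -/

section Quasisimple

variable {K : Type*} [Group K] (hK : Cfsg.IsQuasisimple K)
include hK

theorem quasisimple_commutator : commutator K = ⊤ := Group.isPerfect_def.1 hK.1

theorem quasisimple_center_ne_top : Subgroup.center K ≠ ⊤ := by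
  intro h
  have hs := hK.2
  have := hs.toNontrivial
  exact absurd ((QuotientGroup.nontrivial_iff (N := Subgroup.center K)).1 inferInstance) (not_not.2 h)

theorem quasisimple_nontrivial : Nontrivial K := by
  by_contra h
  rw [not_nontrivial_iff_subsingleton] at h
  exact quasisimple_center_ne_top hK (Subsingleton.elim _ _)

theorem quasisimple_not_solvable : ¬ Group.IsSolvable K :=
  have := quasisimple_nontrivial hK
  have := hK.1
  Group.IsPerfect.not_isSolvable K

theorem quasisimple_normal {N : Subgroup K} [N.Normal] : N ≤ Subgroup.center K ∨ N = ⊤ := by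
  have hs := hK.2
  set f := QuotientGroup.mk' (Subgroup.center K) with hf
  rcases (Subgroup.Normal.map ‹N.Normal› f (QuotientGroup.mk'_surjective _)).eq_bot_or_eq_top with h | h
  · left
    rwa [Subgroup.map_eq_bot_iff, QuotientGroup.ker_mk'] at h
  · right
    have h2 : N ⊔ Subgroup.center K = ⊤ := by
      have := Subgroup.comap_map_eq f N
      rwa [h, Subgroup.comap_top, hf, QuotientGroup.ker_mk', eq_comm] at this
    refine top_le_iff.1 ((quasisimple_commutator hK).ge.trans ?_)
    exact Subgroup.Normal.commutator_le_of_self_sup_commutative_eq_top h2 inferInstance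

theorem quasisimple_subnormal {H : Subgroup K} (hH : H.IsSubnormal) : H ≤ Subgroup.center K ∨ H = ⊤ := by
  rcases hH.lt_normal with h | ⟨N, hN, hle, hlt⟩
  · exact Or.inr h
  · rcases quasisimple_normal hK (N := N) with h | h
    · exact Or.inl (hle.trans h)
    · exact absurd h hlt.ne

theorem quasisimple_congr {K' : Type*} [Group K'] (e : K ≃* K') : Cfsg.IsQuasisimple K' := by
  have h1 := hK.1
  refine ⟨Group.IsPerfect.ofSurjective (f := e.toMonoidHom) e.surjective, ?_⟩
  have hc : (Subgroup.center K).map (e : K →* K') = Subgroup.center K' := by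
    ext x
    rw [show x ∈ (Subgroup.center K).map (e : K →* K') ↔ e.symm x ∈ Subgroup.center K from
      Subgroup.mem_map_equiv, Subgroup.mem_center_iff, Subgroup.mem_center_iff]
    refine ⟨fun h y => e.symm.injective (by simpa using h (e.symm y)), fun h y => e.injective ?_⟩
    simpa using h (e y)
  have hs := hK.2
  exact (QuotientGroup.congr _ _ e hc).symm.isSimpleGroup

end Quasisimple

/-! ### Components -/

section Component

variable {L : Subgroup G} (hL : Cfsg.IsComponent L)
include hL

theorem IsComponent.commutator_eq : ⁅L, L⁆ = L := Subgroup.isPerfect_iff.1 hL.2.1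

theorem IsComponent.not_solvable : ¬ Group.IsSolvable L := quasisimple_not_solvable hL.2

theorem IsComponent.ne_bot : L ≠ ⊥ := by
  rintro rfl
  exact quasisimple_not_solvable hL.2 inferInstance

theorem IsComponent.map_equiv {G' : Type*} [Group G'] (e : G ≃* G') :
    Cfsg.IsComponent (L.map e.toMonoidHom) :=
  ⟨hL.1.map e.surjective, quasisimple_congr hL.2 (L.equivMapOfInjective _ e.injective)⟩

theorem IsComponent.map_conj (g : G) : Cfsg.IsComponent (L.map (MulAut.conj g).toMonoidHom) :=
  IsComponent.map_equiv hL _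

theorem IsComponent.subgroupOf {H : Subgroup G} (hle : L ≤ H) : Cfsg.IsComponent (L.subgroupOf H) :=
  ⟨hL.1.subgroupOf, quasisimple_congr hL.2 (subgroupOfEquivOfLe hle).symm⟩

end Component

theorem isComponent_map_subtype_iff {H : Subgroup G} (hH : H.IsSubnormal) (K : Subgroup H) :
    Cfsg.IsComponent (K.map H.subtype) ↔ Cfsg.IsComponent K :=
  ⟨fun h => ⟨(isSubnormal_map_subtype_iff hH K).1 h.1,
      quasisimple_congr h.2 (K.equivMapOfInjective _ H.subtype_injective).symm⟩,
    fun h => ⟨(isSubnormal_map_subtype_iff hH K).2 h.1,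
      quasisimple_congr h.2 (K.equivMapOfInjective _ H.subtype_injective)⟩⟩

theorem isComponent_of_isSimple_of_isSubnormal {K : Subgroup G} (hK : K.IsSubnormal)
    (hs : IsSimpleGroup K) (hna : ¬ IsMulCommutative K) : Cfsg.IsComponent K := by
  refine ⟨hK, Group.isPerfect_def.2 ?_, ?_⟩
  · rcases (inferInstance : (commutator K).Normal).eq_bot_or_eq_top with h | h
    · exact absurd ((commutator_eq_bot_iff (G := K)).1 h) hna
    · exact h
  · have hc : Subgroup.center K = ⊥ := by
      rcases (inferInstance : (Subgroup.center K).Normal).eq_bot_or_eq_top with h | h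
      · exact h
      · exact absurd ((commutator_eq_bot_iff (G := K)).1 ((commutator_eq_bot_iff_center_eq_top K).2 h)) hna
    exact ((QuotientGroup.quotientMulEquivOfEq hc).trans (QuotientGroup.quotientBot (G := K))).isSimpleGroup

/-- Wielandt: a component lies in a given subnormal subgroup or centralizes it. -/
theorem component_le_or_commute_aux : ∀ (n : ℕ) (G : Type u) [Group G] [Finite G],
    Nat.card G ≤ n → ∀ L H : Subgroup G, Cfsg.IsComponent L → H.IsSubnormal → L ≤ H ∨ ⁅L, H⁆ = ⊥ := by
  intro n
  induction n with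
  | zero => intro G _ _ h; have := Nat.card_pos (α := G); omega
  | succ n ih =>
    intro G _ _ hn L H hL hH
    rcases hH.lt_normal with rfl | ⟨M, hM, hHM, hMtop⟩
    · exact Or.inl le_top
    rcases hL.1.lt_normal with rfl | ⟨N, hN, hLN, hNtop⟩
    · right
      have hq : Cfsg.IsQuasisimple G := quasisimple_congr hL.2 Subgroup.topEquiv
      rcases quasisimple_subnormal hq hH with h | h
      · rw [commutator_comm]
        exact (commutator_top_right_eq_bot_iff_le_center).2 h
      · exact absurd (eq_top_iff.2 (h ▸ hHM)) hMtop.ne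
    have key : ∀ X : Subgroup G, X ≠ ⊤ → ∀ H' : Subgroup G, H'.IsSubnormal → L ≤ X → H' ≤ X →
        L ≤ H' ∨ ⁅L, H'⁆ = ⊥ := by
      intro X hX H' hH' hLX hH'X
      have hc : Nat.card X ≤ n := by have := lt_card_of_ne_top hX; omega
      rcases ih X hc (L.subgroupOf X) (H'.subgroupOf X) (IsComponent.subgroupOf hL hLX)
        hH'.subgroupOf with h | h
      · left
        have := map_mono (f := X.subtype) h
        rwa [map_subgroupOf_eq_of_le hLX, map_subgroupOf_eq_of_le hH'X] at this
      · right
        have := congrArg (Subgroup.map X.subtype) h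
        rwa [map_commutator, map_subgroupOf_eq_of_le hLX, map_subgroupOf_eq_of_le hH'X,
          Subgroup.map_bot] at this
    by_cases hLM : L ≤ M
    · exact key M hMtop.ne H hH hLM hHM
    right
    have h1 : ⁅L, M ⊓ N⁆ = ⊥ := by
      rcases key N hNtop.ne (M ⊓ N) (hM.isSubnormal.inf hN.isSubnormal) hLN inf_le_right with h | h
      · exact absurd (h.trans inf_le_left) hLM
      · exact h
    have h2 : ⁅L, M⁆ ≤ M ⊓ N :=
      le_inf (commutator_le_right L M) ((commutator_mono hLN le_rfl).trans (commutator_le_left N M))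
    have h3 : ⁅⁅M, L⁆, L⁆ = ⊥ := by
      refine eq_bot_iff.2 ((commutator_mono ((commutator_comm M L).le.trans h2) le_rfl).trans ?_)
      rw [commutator_comm, h1]
    have h4 : ⁅M, L⁆ = ⊥ := commutator_eq_bot_of_perfect (IsComponent.commutator_eq hL) h3
    rw [eq_bot_iff]
    exact (commutator_mono le_rfl hHM).trans ((commutator_comm L M).le.trans h4.le)

section Finite

variable [Finite G]

theorem component_le_or_commute {L H : Subgroup G} (hL : Cfsg.IsComponent L) (hH : H.IsSubnormal) :
    L ≤ H ∨ ⁅L, H⁆ = ⊥ :=
  component_le_or_commute_aux (Nat.card G) G le_rfl L H hL hH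

omit [Finite G] in
theorem component_not_le_solvable {L H : Subgroup G} (hL : Cfsg.IsComponent L)
    (hH : Group.IsSolvable H) : ¬ L ≤ H := fun h => IsComponent.not_solvable hL (isSolvable_of_le h hH)

/-- A component centralizes every solvable subgroup that it normalizes. -/
theorem component_commute_solvable {L H : Subgroup G} (hL : Cfsg.IsComponent L)
    (hsolv : Group.IsSolvable H) (hinv : L ≤ normalizer (H : Set G)) : ⁅L, H⁆ = ⊥ := by
  set X := L ⊔ H with hX
  have hLX : L ≤ X := le_sup_left
  have hHX : H ≤ X := le_sup_right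
  have hn : (H.subgroupOf X).Normal :=
    (normal_subgroupOf_iff_le_normalizer hHX).2 (sup_le hinv le_normalizer)
  rcases component_le_or_commute (IsComponent.subgroupOf hL hLX) hn.isSubnormal with h | h
  · have := map_mono (f := X.subtype) h
    rw [map_subgroupOf_eq_of_le hLX, map_subgroupOf_eq_of_le hHX] at this
    exact absurd this (component_not_le_solvable hL hsolv)
  · have := congrArg (Subgroup.map X.subtype) h
    rwa [map_commutator, map_subgroupOf_eq_of_le hLX, map_subgroupOf_eq_of_le hHX,
      Subgroup.map_bot] at this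

/-- Distinct components commute. -/
theorem component_commute {L K : Subgroup G} (hL : Cfsg.IsComponent L) (hK : Cfsg.IsComponent K)
    (hne : L ≠ K) : ⁅L, K⁆ = ⊥ := by
  rcases component_le_or_commute hL hK.1 with h | h
  · rcases component_le_or_commute hK hL.1 with h' | h'
    · exact absurd (le_antisymm h h') hne
    · rwa [commutator_comm]
  · exact h

theorem component_commute_fitting {L : Subgroup G} (hL : Cfsg.IsComponent L) :
    ⁅L, Cfsg.fittingSubgroup G⁆ = ⊥ :=
  have := fittingSubgroup_normal' G
  component_commute_solvable hL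
    (have := fittingSubgroup_isNilpotent G; IsNilpotent.to_isSolvable) le_normalizer_of_normal

/-- A component normalizes every component. -/
theorem component_le_normalizer {L K : Subgroup G} (hL : Cfsg.IsComponent L) (hK : Cfsg.IsComponent K) :
    L ≤ normalizer (K : Set G) := by
  rcases eq_or_ne L K with rfl | h
  · exact le_normalizer
  · exact (commutator_eq_bot_iff_le_centralizer.1 (component_commute hL hK h)).trans
      (centralizer_le_normalizer _)

/-! ### The layer -/

omit [Finite G] in
theorem le_layer {L : Subgroup G} (hL : Cfsg.IsComponent L) : L ≤ Cfsg.layer G := le_sSup hL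

omit [Finite G] in
theorem map_layer_le_of_equiv {G' : Type*} [Group G'] (e : G ≃* G') :
    (Cfsg.layer G).map e.toMonoidHom ≤ Cfsg.layer G' := by
  rw [Cfsg.layer, sSup_eq_iSup, Subgroup.map_iSup]
  refine iSup_le fun L => ?_
  rw [Subgroup.map_iSup]
  exact iSup_le fun hL => le_layer (IsComponent.map_equiv hL e)

omit [Finite G] in
theorem map_layer_equiv {G' : Type*} [Group G'] (e : G ≃* G') :
    (Cfsg.layer G).map e.toMonoidHom = Cfsg.layer G' := by
  refine le_antisymm (map_layer_le_of_equiv e) fun x hx => ?_
  exact ⟨e.symm x, map_layer_le_of_equiv e.symm ⟨x, hx, rfl⟩, e.apply_symm_apply x⟩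

instance layer_characteristic {G : Type*} [Group G] : (Cfsg.layer G).Characteristic :=
  characteristic_iff_map_eq.2 fun e => map_layer_equiv e

instance generalizedFittingSubgroup_characteristic {G : Type*} [Group G] [Finite G] :
    (Cfsg.generalizedFittingSubgroup G).Characteristic :=
  characteristic_iff_map_eq.2 fun e => by
    rw [Cfsg.generalizedFittingSubgroup, Subgroup.map_sup, map_layer_equiv,
      map_fittingSubgroup_equiv]

omit [Finite G] in
theorem layer_le_generalizedFitting : Cfsg.layer G ≤ Cfsg.generalizedFittingSubgroup G := le_sup_left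

omit [Finite G] in
theorem fitting_le_generalizedFitting :
    Cfsg.fittingSubgroup G ≤ Cfsg.generalizedFittingSubgroup G := le_sup_right

theorem commutator_layer_fitting : ⁅Cfsg.layer G, Cfsg.fittingSubgroup G⁆ = ⊥ :=
  commutator_sSup_left_eq_bot fun _ hL => component_commute_fitting hL

theorem mem_generalizedFitting {x : G} :
    x ∈ Cfsg.generalizedFittingSubgroup G ↔
      ∃ e ∈ Cfsg.layer G, ∃ f ∈ Cfsg.fittingSubgroup G, e * f = x :=
  mem_sup_of_commute commutator_layer_fitting

omit [Finite G] in
theorem layer_eq_bot_iff : Cfsg.layer G = ⊥ ↔ ∀ L : Subgroup G, ¬ Cfsg.IsComponent L :=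
  ⟨fun h _ hL => IsComponent.ne_bot hL (le_bot_iff.1 (h ▸ le_layer hL)),
    fun h => le_bot_iff.1 (sSup_le fun L hL => absurd hL (h L))⟩

omit [Finite G] in
theorem layer_perfect : ⁅Cfsg.layer G, Cfsg.layer G⁆ = Cfsg.layer G :=
  le_antisymm (commutator_le_self _) (sSup_le fun L hL => by
    calc L = ⁅L, L⁆ := (IsComponent.commutator_eq hL).symm
      _ ≤ _ := commutator_mono (le_layer hL) (le_layer hL))

theorem component_normal_in_layer {L : Subgroup G} (hL : Cfsg.IsComponent L) :
    (L.subgroupOf (Cfsg.layer G)).Normal :=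
  (normal_subgroupOf_iff_le_normalizer (le_layer hL)).2
    (sSup_le fun _ hK => component_le_normalizer hK hL)

omit [Finite G] in
theorem layer_map_le_of_isSubnormal {H : Subgroup G} (hH : H.IsSubnormal) :
    (Cfsg.layer H).map H.subtype ≤ Cfsg.layer G := by
  rw [Cfsg.layer, sSup_eq_iSup, Subgroup.map_iSup]
  refine iSup_le fun L => ?_
  rw [Subgroup.map_iSup]
  exact iSup_le fun hL => le_layer ((isComponent_map_subtype_iff hH L).2 hL)

omit [Finite G] in
/-- The layer of a subnormal subgroup is generated by the components contained in it. -/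
theorem layer_map_eq_of_isSubnormal {H : Subgroup G} (hH : H.IsSubnormal) :
    (Cfsg.layer H).map H.subtype = sSup {L : Subgroup G | Cfsg.IsComponent L ∧ L ≤ H} := by
  refine le_antisymm ?_ (sSup_le fun L hL => ?_)
  · rw [Cfsg.layer, sSup_eq_iSup, Subgroup.map_iSup]
    refine iSup_le fun L => ?_
    rw [Subgroup.map_iSup]
    exact iSup_le fun hL =>
      le_sSup ⟨(isComponent_map_subtype_iff hH L).2 hL, map_subtype_le _⟩
  · rw [← map_subgroupOf_eq_of_le hL.2]
    exact map_mono (le_layer (IsComponent.subgroupOf hL.1 hL.2))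

omit [Finite G] in
theorem sSup_components_le_normalizer {S : Set (Subgroup G)} {H : Subgroup G}
    (h : ∀ L ∈ S, H ≤ normalizer (L : Set G)) : H ≤ normalizer ((sSup S : Subgroup G) : Set G) := by
  intro g hg
  rw [mem_normalizer_iff_map_conj, sSup_eq_iSup, Subgroup.map_iSup]
  refine iSup_congr fun L => ?_
  rw [Subgroup.map_iSup]
  exact iSup_congr fun hL => map_conj_eq_of_mem_normalizer (h L hL hg)

theorem isSubnormal_sSup_components {S : Set (Subgroup G)} (hS : ∀ L ∈ S, Cfsg.IsComponent L) :
    (sSup S).IsSubnormal := by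
  have hle : sSup S ≤ Cfsg.layer G := sSup_le fun L hL => le_layer (hS L hL)
  refine isSubnormal_of_normal_subgroupOf hle
    (Subgroup.Normal.isSubnormal inferInstance) ?_
  rw [normal_subgroupOf_iff_le_normalizer hle]
  exact sSup_le fun K hK =>
    sSup_components_le_normalizer fun L hL => component_le_normalizer hK (hS L hL)

/-- `F*(H) = F*(G) ∩ H` for a subnormal subgroup `H`. -/
theorem generalizedFitting_map_eq_inf_of_isSubnormal {H : Subgroup G} (hH : H.IsSubnormal) :
    (Cfsg.generalizedFittingSubgroup H).map H.subtype = Cfsg.generalizedFittingSubgroup G ⊓ H := by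
  refine le_antisymm (le_inf ?_ (map_subtype_le _)) ?_
  · rw [Cfsg.generalizedFittingSubgroup, Subgroup.map_sup]
    exact sup_le_sup (layer_map_le_of_isSubnormal hH) (fittingSubgroup_map_le_of_isSubnormal hH)
  intro s hs
  obtain ⟨e, he, f, hf, rfl⟩ := mem_generalizedFitting.1 hs.1
  set E1 := sSup {L : Subgroup G | Cfsg.IsComponent L ∧ L ≤ H} with hE1
  set E2 := sSup {L : Subgroup G | Cfsg.IsComponent L ∧ ¬ L ≤ H} with hE2
  have hE2H : ⁅E2, H⁆ = ⊥ := commutator_sSup_left_eq_bot fun L hL =>
    (component_le_or_commute hL.1 hH).resolve_left hL.2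
  have hE1H : E1 ≤ H := sSup_le fun L hL => hL.2
  have h12 : ⁅E2, E1⁆ = ⊥ := eq_bot_iff.2 ((commutator_mono le_rfl hE1H).trans hE2H.le)
  have hE : e ∈ E2 ⊔ E1 := by
    refine (sSup_le fun L hL => ?_ : Cfsg.layer G ≤ E2 ⊔ E1) he
    by_cases h : L ≤ H
    · exact le_sup_of_le_right (le_sSup ⟨hL, h⟩)
    · exact le_sup_of_le_left (le_sSup ⟨hL, h⟩)
  obtain ⟨e2, he2, e1, he1, rfl⟩ := (mem_sup_of_commute h12).1 hE
  have hc := commutator_eq_bot_iff_forall.1 h12 e2 he2 e1 he1
  have hy : e2 * f ∈ H := by
    have : e2 * f = e1⁻¹ * (e2 * e1 * f) := by rw [hc]; group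
    rw [this]
    exact mul_mem (inv_mem (hE1H he1)) hs.2
  have hEf : ∀ z ∈ E2, z * f = f * z := fun z hz =>
    commutator_eq_bot_iff_forall.1 commutator_layer_fitting z
      ((sSup_le fun L hL => le_layer hL.1 : E2 ≤ Cfsg.layer G) hz) f hf
  have he2Z : e2 ∈ (Subgroup.center E2).map E2.subtype := by
    refine mem_center_map_iff.2 ⟨he2, fun z hz => ?_⟩
    have h := commutator_eq_bot_iff_forall.1 hE2H z hz _ hy
    rw [← mul_assoc, mul_assoc e2 f z, ← hEf z hz, ← mul_assoc] at h
    exact (mul_right_cancel h).symm
  have hyF : e2 * f ∈ Cfsg.fittingSubgroup G :=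
    mul_mem (center_map_le_fittingSubgroup (isSubnormal_sSup_components fun L hL => hL.1) he2Z) hf
  have hyS : e2 * f ∈ (Cfsg.fittingSubgroup H).map H.subtype :=
    inf_fittingSubgroup_le H ⟨hyF, hy⟩
  have he1S : e1 ∈ (Cfsg.layer H).map H.subtype := by
    rw [layer_map_eq_of_isSubnormal hH]; exact he1
  rw [Cfsg.generalizedFittingSubgroup, Subgroup.map_sup, hc, mul_assoc]
  exact mul_mem (mem_sup_left he1S) (mem_sup_right hyS)

/-- `C_G(F*(G)) ≤ F*(G)`. -/
theorem centralizer_generalizedFitting_le :
    centralizer (Cfsg.generalizedFittingSubgroup G : Set G) ≤ Cfsg.generalizedFittingSubgroup G := by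
  set F := Cfsg.generalizedFittingSubgroup G with hF
  set C := centralizer (F : Set G) with hC
  by_contra hne
  obtain ⟨K, ⟨hKC, hKsn, hKF⟩, hmin⟩ :=
    Set.Finite.exists_minimal (s := {K : Subgroup G | K ≤ C ∧ K.IsSubnormal ∧ ¬ K ≤ F})
      (Set.toFinite _) ⟨C, le_rfl, Subgroup.Normal.isSubnormal inferInstance, hne⟩
  have hcentral : ∀ x ∈ K, x ∈ F → ∀ y ∈ K, x * y = y * x := fun x _ hxF y hy =>
    mem_centralizer_iff.1 (hKC hy) x hxF
  have hperf : ⁅K, K⁆ = K := by
    by_contra hne'
    have hsn := isSubnormal_commutator_self hKsn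
    have hle : ⁅K, K⁆ ≤ F := by
      by_contra hnot
      exact hne' (le_antisymm (commutator_le_self K)
        (hmin ⟨(commutator_le_self K).trans hKC, hsn, hnot⟩ (commutator_le_self K)))
    have hnil : Group.IsNilpotent K := by
      refine Group.of_quotient_center_nilpotent ?_
      have : IsMulCommutative (K ⧸ Subgroup.center K) := by
        rw [Subgroup.Normal.quotient_commutative_iff_commutator_le]
        intro z hz
        have hz' : (z : G) ∈ ⁅K, K⁆ := K.map_subtype_commutator ▸ ⟨z, hz, rfl⟩
        exact Subgroup.mem_center_iff.2 fun y => Subtype.ext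
          (hcentral z z.2 (hle hz') y y.2).symm
      exact isNilpotent_of_isMulCommutative _
    exact hKF ((le_fittingSubgroup_of_isSubnormal hKsn hnil).trans fitting_le_generalizedFitting)
  have hKne : K ≠ ⊥ := fun h => hKF (h ▸ bot_le)
  have : Group.IsPerfect K := Subgroup.isPerfect_iff.2 hperf
  have : Nontrivial K := (Subgroup.nontrivial_iff_ne_bot K).2 hKne
  have hctop : Subgroup.center K ≠ ⊤ := fun h => by
    have : IsMulCommutative K := (commutator_eq_bot_iff (G := K)).1
      ((commutator_eq_bot_iff_center_eq_top K).2 h)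
    exact Group.IsPerfect.not_isMulCommutative K this
  have hsimple : IsSimpleGroup (K ⧸ Subgroup.center K) := by
    have : Nontrivial (K ⧸ Subgroup.center K) := QuotientGroup.nontrivial_iff.2 hctop
    refine ⟨fun N hN => ?_⟩
    set f := QuotientGroup.mk' (Subgroup.center K) with hf
    set M := N.comap f with hM
    have hMn : M.Normal := hN.comap f
    rw [← Subgroup.map_comap_eq_self_of_surjective (QuotientGroup.mk'_surjective _) N, ← hM]
    by_cases hMtop : M = ⊤
    · exact Or.inr (by rw [hMtop]; exact Subgroup.map_top_of_surjective f (QuotientGroup.mk'_surjective _))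
    left
    have hMc : M ≤ Subgroup.center K := by
      have hsn : (M.map K.subtype).IsSubnormal := hMn.isSubnormal.trans' hKsn
      have hle : M.map K.subtype ≤ F := by
        by_contra hnot
        refine hMtop (top_le_iff.1 fun x _ => ?_)
        obtain ⟨y, hy, hxy⟩ :=
          (hmin ⟨(map_subtype_le M).trans hKC, hsn, hnot⟩ (map_subtype_le M)) x.2
        rwa [← Subtype.ext hxy]
      exact fun x hx => Subgroup.mem_center_iff.2 fun y =>
        Subtype.ext (hcentral x x.2 (hle ⟨x, hx, rfl⟩) y y.2).symm
    rwa [Subgroup.map_eq_bot_iff, QuotientGroup.ker_mk']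
  exact hKF ((le_layer ⟨hKsn, ‹_›, hsimple⟩).trans layer_le_generalizedFitting)

omit [Finite G] in
theorem generalizedFitting_eq_fitting_of_layer_eq_bot (h : Cfsg.layer G = ⊥) :
    Cfsg.generalizedFittingSubgroup G = Cfsg.fittingSubgroup G := by
  rw [Cfsg.generalizedFittingSubgroup, h, bot_sup_eq]

omit [Finite G] in
theorem layer_eq_bot_of_isSolvable [Group.IsSolvable G] : Cfsg.layer G = ⊥ :=
  layer_eq_bot_iff.2 fun _ hL => IsComponent.not_solvable hL inferInstance

/-- `C_G(F(G)) ≤ F(G)` for solvable `G`. -/
theorem centralizer_fitting_le_of_isSolvable [Group.IsSolvable G] :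
    centralizer (Cfsg.fittingSubgroup G : Set G) ≤ Cfsg.fittingSubgroup G := by
  have h := centralizer_generalizedFitting_le (G := G)
  rwa [generalizedFitting_eq_fitting_of_layer_eq_bot layer_eq_bot_of_isSolvable] at h

theorem centralizer_fitting_le_iff_layer_eq_bot :
    centralizer (Cfsg.fittingSubgroup G : Set G) ≤ Cfsg.fittingSubgroup G ↔ Cfsg.layer G = ⊥ := by
  constructor
  · intro h
    refine layer_eq_bot_iff.2 fun L hL => ?_
    refine component_not_le_solvable hL (H := Cfsg.fittingSubgroup G)
      (have := fittingSubgroup_isNilpotent G; IsNilpotent.to_isSolvable) ?_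
    exact (commutator_eq_bot_iff_le_centralizer.1 (component_commute_fitting hL)).trans h
  · intro h
    have h' := centralizer_generalizedFitting_le (G := G)
    rwa [generalizedFitting_eq_fitting_of_layer_eq_bot h] at h'

theorem generalizedFitting_ne_bot [Nontrivial G] : Cfsg.generalizedFittingSubgroup G ≠ ⊥ := by
  intro h
  have h' := centralizer_generalizedFitting_le (G := G)
  rw [h, le_bot_iff] at h'
  refine top_ne_bot (α := Subgroup G) (eq_bot_iff.2 (le_trans ?_ h'.le))
  intro g _ x hx
  have : x = 1 := hx
  simp [this]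

theorem center_layer_eq : (Subgroup.center (Cfsg.layer G)).map (Cfsg.layer G).subtype =
    Cfsg.fittingSubgroup G ⊓ Cfsg.layer G := by
  refine le_antisymm
    (le_inf (center_map_le_fittingSubgroup (Subgroup.Normal.isSubnormal inferInstance)) (map_subtype_le _)) ?_
  intro x hx
  refine mem_center_map_iff.2 ⟨hx.2, fun y hy => ?_⟩
  exact (commutator_eq_bot_iff_forall.1 commutator_layer_fitting y hy x hx.1).symm

/-- If `F*(G)` is a `p`-group it is `O_p(G)`, and then `G` has no components. -/
theorem generalizedFitting_eq_pCore_iff {p : ℕ} [Fact p.Prime] :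
    Cfsg.generalizedFittingSubgroup G = Cfsg.pCore p G ↔
      centralizer (Cfsg.pCore p G : Set G) ≤ Cfsg.pCore p G := by
  constructor
  · intro h
    rw [← h]; exact centralizer_generalizedFitting_le
  · intro h
    refine le_antisymm ?_ ((pCore_le_fittingSubgroup p G).trans fitting_le_generalizedFitting)
    have hlayer : Cfsg.layer G = ⊥ := layer_eq_bot_iff.2 fun L hL => by
      have hP := (pCore_isPGroup p G).isNilpotent
      refine component_not_le_solvable hL (H := Cfsg.pCore p G) IsNilpotent.to_isSolvable ?_
      refine (commutator_eq_bot_iff_le_centralizer.1 ?_).trans h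
      exact component_commute_solvable hL IsNilpotent.to_isSolvable le_normalizer_of_normal
    rw [generalizedFitting_eq_fitting_of_layer_eq_bot hlayer, fittingSubgroup_eq_iSup_pCore]
    refine iSup_le fun q => ?_
    rcases eq_or_ne (q : ℕ) p with hq | hq
    · rw [hq]
    · have : Fact (q : ℕ).Prime := ⟨q.2⟩
      have hd : Disjoint (Cfsg.pCore (q : ℕ) G) (Cfsg.pCore p G) :=
        IsPGroup.disjoint_of_ne _ _ hq _ _ (pCore_isPGroup _ G) (pCore_isPGroup p G)
      exact (commutator_eq_bot_iff_le_centralizer.1 (commutator_eq_bot_of_disjoint hd)).trans h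

end Finite

end Cfsg.Lib.Core
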