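import Mathlib.Algebra.Group.Subgroup.Pointwise
import Cfsg.Agent.Lib.Core.Basic

/-!
`MulAut.conj g • H` versus `H.map (MulAut.conj g).toMonoidHom`.
-/

set_option autoImplicit false

namespace Cfsg.Lib.Core

open scoped Pointwise

variable {G : Type*} [Group G]

theorem conj_smul_eq_map (H : Subgroup G) (g : G) :
    MulAut.conj g • H = H.map (MulAut.conj g).toMonoidHom := rfl

theorem mem_conj_smul {H : Subgroup G} {g x : G} : x ∈ MulAut.conj g • H ↔ g⁻¹ * x * g ∈ H := by
  rw [conj_smul_eq_map]; exact mem_map_conj

/-- A subgroup that is conjugation-invariant in the `smul` form is normal. -/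
theorem normal_iff_conj_smul {H : Subgroup G} : H.Normal ↔ ∀ g : G, MulAut.conj g • H = H :=
  normal_iff_map_conj

end Cfsg.Lib.Core
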